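import Mathlib
import Cfsg.Prelude.Def_Solvable
import Cfsg.Prelude.Def_Transfer
import Cfsg.Agent.S3742
import Cfsg.Agent.Lib.Helper2.SL23
import Cfsg.Agent.H85.DihAut
import Cfsg.Agent.Lib.Helper54.Quaternion
import Cfsg.Agent.Lib.Helper54.FpfNorm
import Cfsg.Agent.S0009
import Cfsg.Agent.S0552
import Cfsg.Agent.Lib.Helper21.Bender1
import Cfsg.Agent.Lib.Helper91.Hall
import Cfsg.Agent.Lib.Helper70.Frattini
import Cfsg.Agent.Lib.Helper47.Basic
import Cfsg.Agent.S3857

/-!
Solvable transitive linear groups whose point stabilizers are Sylow `p`-subgroups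
(the solvable case of Gagola's theorem on characters vanishing on all but two classes).

Main result `key`: let `Γ` be a finite solvable group with `O_p(Γ) = 1` acting on an elementary
abelian `p`-group `V` (via `ρ : Γ →* MulAut V`) such that the stabilizer of every nonidentity
element is a `p`-group and `|Γ| = (|V| - 1) p^a`. Then the commutator subgroup of `Γ` has no
nontrivial `p`-elements; consequently (`npc_of_comm`) `Γ` has a normal `p`-complement and abelian
Sylow `p`-subgroups.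
-/

set_option autoImplicit false

namespace Cfsg.Agent.Lib.Lead.GagolaSolv

open Cfsg.Agent.Lib.Helper54.UniqueSubgroup
open scoped Pointwise commutatorElement

universe u v

section Half

variable {V : Type v} [CommGroup V]

/-- A fixed-point-free involutory automorphism of an abelian group inverts it. -/
theorem inv_of_fpf_aut (c : MulAut V) (hc : ∀ x : V, c (c x) = x)
    (hfp : ∀ x : V, c x = x → x = 1) (x : V) : c x = x⁻¹ := by
  have h1 : c (x * c x) = x * c x := by
    rw [map_mul, hc, mul_comm]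
  have h2 := hfp _ h1
  exact eq_inv_of_mul_eq_one_right h2

/-- The "half space": if `a b` are automorphisms of an elementary abelian `3`-group `V` which
satisfy the quaternion relations with the central involution acting by inversion, then the fixed
points of `x ↦ a x * b x` form a subgroup `U` with `|U|^2 = |V|`. -/
theorem half_card (a b : MulAut V) (h3 : ∀ x : V, x ^ 3 = 1)
    (haa : ∀ x : V, a (a x) = x⁻¹) (hbb : ∀ x : V, b (b x) = x⁻¹)
    (hba : ∀ x : V, b (a x) = (a (b x))⁻¹) :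
    ∃ U : Subgroup V, Nat.card U * Nat.card U = Nat.card V ∧ ∀ x : V, x ∈ U ↔ a x * b x = x := by
  have hinv2 : ∀ x : V, x⁻¹ * x⁻¹ = x := by
    intro x
    have := h3 x
    rw [pow_succ, pow_two] at this
    calc x⁻¹ * x⁻¹ = x⁻¹ * x⁻¹ * (x * x * x) := by rw [this, mul_one]
      _ = x := by group
  let φ : V →* V := (a : V →* V) * (b : V →* V)
  have hφ : ∀ x : V, φ x = a x * b x := fun x => rfl
  have hφφ : ∀ x : V, φ (φ x) = x := by
    intro x
    rw [hφ, hφ, map_mul, map_mul, haa, hbb, hba]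
    calc x⁻¹ * a (b x) * ((a (b x))⁻¹ * x⁻¹) = x⁻¹ * x⁻¹ := by group
      _ = x := hinv2 x
  -- the two eigenspaces
  let U₁ : Subgroup V :=
    { carrier := {x | φ x = x}
      mul_mem' := by
        intro x y (hx : φ x = x) (hy : φ y = y)
        show φ (x * y) = x * y
        rw [map_mul, hx, hy]
      one_mem' := map_one φ
      inv_mem' := by
        intro x (hx : φ x = x)
        show φ x⁻¹ = x⁻¹
        rw [map_inv, hx] }
  let U₂ : Subgroup V :=
    { carrier := {x | φ x = x⁻¹}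
      mul_mem' := by
        intro x y (hx : φ x = x⁻¹) (hy : φ y = y⁻¹)
        show φ (x * y) = (x * y)⁻¹
        rw [map_mul, hx, hy, mul_inv]
      one_mem' := by
        show φ 1 = 1⁻¹
        rw [map_one, inv_one]
      inv_mem' := by
        intro x (hx : φ x = x⁻¹)
        show φ x⁻¹ = x⁻¹⁻¹
        rw [map_inv, hx] }
  have hU₁ : ∀ x : V, x ∈ U₁ ↔ φ x = x := fun x => Iff.rfl
  have hU₂ : ∀ x : V, x ∈ U₂ ↔ φ x = x⁻¹ := fun x => Iff.rfl
  -- complement
  have hdisj : Disjoint U₁ U₂ := by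
    rw [Subgroup.disjoint_def]
    intro x hx1 hx2
    rw [hU₁] at hx1
    rw [hU₂, hx1] at hx2
    have h := hinv2 x
    rw [← hx2] at h
    have h' : x * x = x := h
    exact mul_eq_left.mp h'
  have hmul : (U₁ : Set V) * (U₂ : Set V) = Set.univ := by
    rw [Set.eq_univ_iff_forall]
    intro x
    refine ⟨(x * φ x)⁻¹, ?_, x⁻¹ * φ x, ?_, ?_⟩
    · show φ ((x * φ x)⁻¹) = (x * φ x)⁻¹
      rw [map_inv, map_mul, hφφ, mul_comm]
    · show φ (x⁻¹ * φ x) = (x⁻¹ * φ x)⁻¹
      rw [map_mul, map_inv, hφφ, mul_inv, inv_inv, mul_comm]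
    · show (x * φ x)⁻¹ * (x⁻¹ * φ x) = x
      calc (x * φ x)⁻¹ * (x⁻¹ * φ x) = x⁻¹ * x⁻¹ := by
            rw [mul_inv]
            calc x⁻¹ * (φ x)⁻¹ * (x⁻¹ * φ x) = x⁻¹ * x⁻¹ * ((φ x)⁻¹ * φ x) := by
                  rw [mul_mul_mul_comm]
              _ = x⁻¹ * x⁻¹ := by rw [inv_mul_cancel, mul_one]
        _ = x := hinv2 x
  have hcompl : Subgroup.IsComplement' U₁ U₂ :=
    Subgroup.isComplement'_of_disjoint_and_mul_eq_univ hdisj hmul
  have hcard := hcompl.card_mul_card
  -- the automorphism `a ∘ b` swaps the eigenspaces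
  have hswap : ∀ x : V, φ (a (b x)) = a (b ((φ x)⁻¹)) := by
    intro x
    have e1 : φ (a (b x)) = (b x)⁻¹ * a x := by
      rw [hφ, haa, hba, hbb, map_inv, inv_inv]
    have s1 : b ((φ x)⁻¹) = a (b x) * x := by
      rw [hφ, map_inv, map_mul, hba, hbb, mul_inv, inv_inv, inv_inv]
    have e2 : a (b ((φ x)⁻¹)) = (b x)⁻¹ * a x := by
      rw [s1, map_mul, haa]
    rw [e1, e2]
  have hequiv : Nat.card U₁ = Nat.card U₂ := by
    apply Nat.card_congr
    refine Equiv.subtypeEquiv ((b.trans a).toEquiv) ?_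
    intro x
    show x ∈ U₁ ↔ a (b x) ∈ U₂
    rw [hU₁, hU₂, hswap]
    constructor
    · intro h
      rw [h, map_inv, map_inv]
    · intro h
      have h0 : a (b (x⁻¹)) = (a (b x))⁻¹ := by rw [map_inv, map_inv]
      rw [← h0] at h
      have h' := b.injective (a.injective h)
      exact inv_injective h'
  refine ⟨U₁, ?_, fun x => hU₁ x⟩
  rw [← hcard, hequiv]

end Half

section Semi

variable {Γ : Type u} {V : Type v} [Group Γ] [Finite Γ] [Group V] [Finite V]

/-- A `q`-subgroup acting without nontrivial fixed points has a unique subgroup of order `q`. -/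
theorem ui_of_fpf_aut [Nontrivial V] (ρ : Γ →* MulAut V) {q : ℕ} [Fact q.Prime]
    (S : Subgroup Γ) (hS : IsPGroup q S)
    (hfpf : ∀ s ∈ S, s ≠ 1 → ∀ x : V, ρ s x = x → x = 1) : UI q S := by
  haveI : Finite (V ⋊[ρ] Γ) := Finite.of_equiv _ SemidirectProduct.equivProd.symm
  let K : Subgroup (V ⋊[ρ] Γ) := (SemidirectProduct.inl : V →* V ⋊[ρ] Γ).range
  haveI hKn : K.Normal := by
    show ((SemidirectProduct.inl : V →* V ⋊[ρ] Γ).range).Normal
    rw [SemidirectProduct.range_inl_eq_ker_rightHom]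
    infer_instance
  have hK : K ≠ ⊥ := by
    obtain ⟨x, hx⟩ := exists_ne (1 : V)
    intro h
    have hmem : (SemidirectProduct.inl x : V ⋊[ρ] Γ) ∈ K := ⟨x, rfl⟩
    rw [h, Subgroup.mem_bot] at hmem
    have : (SemidirectProduct.inl x : V ⋊[ρ] Γ) = SemidirectProduct.inl 1 := by
      rw [hmem, map_one]
    exact hx (SemidirectProduct.inl_injective this)
  apply Cfsg.Agent.Lib.Helper54.FpfNorm.ui_of_fpf K hK hS
    ((SemidirectProduct.inr : Γ →* V ⋊[ρ] Γ).comp S.subtype)
  intro s hs y hy hcomm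
  obtain ⟨x, rfl⟩ := hy
  have hs1 : (s : Γ) ≠ 1 := fun h => hs (Subtype.ext h)
  have hl := congrArg SemidirectProduct.left hcomm
  simp only [MonoidHom.comp_apply, Subgroup.coe_subtype, SemidirectProduct.mul_left,
    SemidirectProduct.left_inr, SemidirectProduct.right_inr, SemidirectProduct.left_inl,
    SemidirectProduct.right_inl, one_mul, map_one, mul_one] at hl
  have := hfpf (s : Γ) s.2 hs1 x hl
  rw [this, map_one]

end Semi

section Npc

variable {Γ : Type u} [Group Γ] [Finite Γ]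

/-- If the commutator subgroup of a finite solvable group has no nontrivial `p`-elements, the
group has a normal `p`-complement and abelian Sylow `p`-subgroups. -/
theorem npc_of_comm [Group.IsSolvable Γ] (p : ℕ) [Fact p.Prime]
    (h : ∀ t ∈ commutator Γ, ∀ k : ℕ, t ^ p ^ k = 1 → t = 1) :
    Cfsg.HasNormalPComplement p Γ ∧ ∀ Q : Sylow p Γ, IsMulCommutative (Q : Subgroup Γ) := by
  have hpp : p.Prime := Fact.out
  constructor
  · have hcop : (Nat.card (commutator Γ)).Coprime p := by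
      rw [Nat.coprime_comm, Nat.Prime.coprime_iff_not_dvd hpp]
      intro hdvd
      obtain ⟨x, hx⟩ := exists_prime_orderOf_dvd_card' p hdvd
      have h0 : x ^ p = 1 := by
        have := pow_orderOf_eq_one x
        rwa [hx] at this
      have h1 : (x : Γ) ^ p ^ 1 = 1 := by
        rw [pow_one]
        exact_mod_cast congrArg Subtype.val h0
      have h2 := h x x.2 1 h1
      have hx1 : x = 1 := Subtype.ext h2
      rw [hx1, orderOf_one] at hx
      exact hpp.one_lt.ne hx
    obtain ⟨P⟩ := (Sylow.nonempty : Nonempty (Sylow p Γ))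
    obtain ⟨b, hb⟩ := IsPGroup.iff_card.mp P.isPGroup'
    have hG : Nat.card Γ = (P : Subgroup Γ).index * Nat.card P := by
      rw [mul_comm]; exact ((P : Subgroup Γ).card_mul_index).symm
    have hmn : ((P : Subgroup Γ).index).Coprime (Nat.card P) := (Sylow.card_coprime_index P).symm
    have hK : (Nat.card (commutator Γ)).Coprime (Nat.card P) := by
      rw [hb]; exact hcop.pow_right b
    obtain ⟨H, hHcard, hle⟩ := Cfsg.Agent.Lib.Helper91.Hall.hall_contain
      ((P : Subgroup Γ).index) (Nat.card P) hG hmn (commutator Γ) hK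
    have hHn : H.Normal := ⟨fun x hx g => by
      have e : g * x * g⁻¹ = ⁅g, x⁆ * x := by
        rw [commutatorElement_def]; group
      rw [e]
      refine H.mul_mem (hle ?_) hx
      rw [commutator_def]
      exact Subgroup.commutator_mem_commutator (Subgroup.mem_top g) (Subgroup.mem_top x)⟩
    refine ⟨P, H, hHn, ?_⟩
    apply Subgroup.isComplement'_of_coprime
    · rw [hHcard]; exact hG.symm
    · rw [hHcard]; exact hmn
  · intro Q
    refine ⟨⟨fun x y => ?_⟩⟩
    have hc : ⁅(x : Γ), (y : Γ)⁆ ∈ commutator Γ := by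
      rw [commutator_def]
      exact Subgroup.commutator_mem_commutator (Subgroup.mem_top _) (Subgroup.mem_top _)
    have hQ : ⁅(x : Γ), (y : Γ)⁆ ∈ (Q : Subgroup Γ) := by
      rw [commutatorElement_def]
      exact mul_mem (mul_mem (mul_mem x.2 y.2) (inv_mem x.2)) (inv_mem y.2)
    obtain ⟨k, hk⟩ := Q.isPGroup' ⟨_, hQ⟩
    have hk' : ⁅(x : Γ), (y : Γ)⁆ ^ p ^ k = 1 := by
      have h1 := congrArg Subtype.val hk
      rw [Subgroup.coe_pow] at h1
      exact h1
    have h1 := h _ hc k hk'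
    apply Subtype.ext
    show (x : Γ) * y = y * x
    exact (commutatorElement_eq_one_iff_commute.mp h1).eq

/-- `O_p(G / O_p(G)) = 1`. -/
theorem pCore_quot_bot' {G : Type u} [Group G] (p : ℕ) [hN : (Cfsg.pCore p G).Normal] :
    Cfsg.pCore p (G ⧸ Cfsg.pCore p G) = ⊥ := by
  rw [eq_bot_iff]
  intro y hy
  obtain ⟨x, rfl⟩ := QuotientGroup.mk'_surjective (Cfsg.pCore p G) y
  have hNn : ((Cfsg.pCore p (G ⧸ Cfsg.pCore p G)).comap
      (QuotientGroup.mk' (Cfsg.pCore p G))).Normal :=
    Subgroup.Normal.comap (Cfsg.Agent.Lib.Helper47.Basic.pCore_normal p _) _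
  have hNp : IsPGroup p ((Cfsg.pCore p (G ⧸ Cfsg.pCore p G)).comap
      (QuotientGroup.mk' (Cfsg.pCore p G))) := by
    rintro ⟨g, hg⟩
    obtain ⟨k, hk⟩ := (Cfsg.Agent.Lib.Helper47.Basic.pCore_isPGroup p (G ⧸ Cfsg.pCore p G)) ⟨_, hg⟩
    have hk' : (QuotientGroup.mk' (Cfsg.pCore p G) g) ^ p ^ k = 1 := congrArg Subtype.val hk
    rw [← map_pow] at hk'
    have hgk : g ^ p ^ k ∈ Cfsg.pCore p G := by
      rw [← QuotientGroup.ker_mk' (Cfsg.pCore p G)]; exact hk'
    obtain ⟨l, hl⟩ := (Cfsg.Agent.Lib.Helper47.Basic.pCore_isPGroup p G) ⟨_, hgk⟩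
    have hl' : (g ^ p ^ k) ^ p ^ l = 1 := congrArg Subtype.val hl
    refine ⟨k + l, ?_⟩
    apply Subtype.ext
    show g ^ p ^ (k + l) = 1
    rw [pow_add, pow_mul]; exact hl'
  have hle : (Cfsg.pCore p (G ⧸ Cfsg.pCore p G)).comap (QuotientGroup.mk' (Cfsg.pCore p G)) ≤
      Cfsg.pCore p G := le_sSup ⟨hNn, hNp⟩
  have hx : x ∈ Cfsg.pCore p G := hle hy
  rw [Subgroup.mem_bot]
  exact (QuotientGroup.eq_one_iff x).mpr hx

end Npc

section Bad

variable {Γ : Type u} {V : Type v} [Group Γ] [Finite Γ] [CommGroup V] [Finite V]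

open QuaternionGroup in
/-- The bad case `p = 3`, `O_2(Γ) ≅ Q_8` with a `3`-element of the commutator subgroup acting
nontrivially on `O_2(Γ)` does not occur. -/
theorem bad_case [Group.IsSolvable Γ] (ρ : Γ →* MulAut V) (h3 : ∀ x : V, x ^ 3 = 1)
    (hfix : ∀ g : Γ, ∀ x : V, x ≠ 1 → ρ g x = x → ∃ k : ℕ, g ^ 3 ^ k = 1)
    (c₀ : ℕ) (hcard : Nat.card Γ = (Nat.card V - 1) * 3 ^ c₀) (hV2 : 2 ≤ Nat.card V)
    (Q : Subgroup Γ) [Q.Normal] (e : Q ≃* QuaternionGroup 2)
    (t : Γ) (htc : t ∈ commutator Γ) (k : ℕ) (htp : t ^ 3 ^ k = 1)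
    (ht : ¬ (Q ≤ Subgroup.centralizer {t})) : False := by
  classical
  have hQcard : Nat.card Q = 8 := by
    rw [Nat.card_congr e.toEquiv, Nat.card_eq_fintype_card, QuaternionGroup.card]
  obtain ⟨n, hn⟩ := IsPGroup.iff_card.mp
    (show IsPGroup 3 V from fun x => ⟨1, by rw [pow_one]; exact h3 x⟩)
  have hn0 : n ≠ 0 := by
    rintro rfl
    rw [pow_zero] at hn
    omega
  have hcop1 : (Nat.card V - 1).Coprime 3 := by
    rw [hn, Nat.coprime_comm, Nat.Prime.coprime_iff_not_dvd Nat.prime_three]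
    intro hd
    have h3dvd : 3 ∣ 3 ^ n := dvd_pow_self 3 hn0
    have h1 : 1 ≤ 3 ^ n := Nat.one_le_pow _ _ (by norm_num)
    have h2 := Nat.dvd_sub h3dvd hd
    rw [Nat.sub_sub_self h1] at h2
    omega
  have hcop : (Nat.card V - 1).Coprime (3 ^ c₀) := hcop1.pow_right c₀
  have hQcop : (Nat.card Q).Coprime (3 ^ c₀) := by
    rw [hQcard]; exact (by decide : Nat.Coprime 8 3).pow_right c₀
  obtain ⟨H, hHcard, hQH⟩ := Cfsg.Agent.Lib.Helper91.Hall.hall_contain
    (Nat.card V - 1) (3 ^ c₀) hcard hcop Q hQcop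
  -- elements of `H` act without fixed points
  have hHfpf : ∀ g ∈ H, g ≠ 1 → ∀ x : V, ρ g x = x → x = 1 := by
    intro g hg hg1 x hx
    by_contra hx1
    obtain ⟨j, hj⟩ := hfix g x hx1 hx
    have hd1 : orderOf g ∣ 3 ^ j := orderOf_dvd_of_pow_eq_one hj
    have hd2 : orderOf g ∣ Nat.card V - 1 := hHcard ▸ Subgroup.orderOf_dvd_natCard H hg
    have : orderOf g = 1 := Nat.eq_one_of_dvd_coprimes (hcop1.pow_right j) hd2 hd1
    exact hg1 (orderOf_eq_one_iff.mp this)
  -- the action on `Q`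
  let α : Γ →* MulAut Q := MulAut.conjNormal
  let B : Subgroup Γ := α.ker
  have hBcomm : ∀ b ∈ B, ∀ s ∈ Q, b * s = s * b := by
    intro b hb s hs
    have h1 : α b = 1 := hb
    have h2 : ((α b) ⟨s, hs⟩ : Γ) = s := by rw [h1]; rfl
    have h3' : ((α b) ⟨s, hs⟩ : Γ) = b * s * b⁻¹ := MulAut.conjNormal_apply b ⟨s, hs⟩
    rw [h3'] at h2
    calc b * s = b * s * b⁻¹ * b := by group
      _ = s * b := by rw [h2]
  have hBidx : B.index ∣ 24 := by
    have h1 : B.index = Nat.card α.range := Subgroup.index_ker α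
    have h2 : Nat.card α.range ∣ Nat.card (MulAut Q) := Subgroup.card_subgroup_dvd_card _
    have h3 : Nat.card (MulAut Q) = 24 := by
      obtain ⟨f⟩ := Cfsg.Agent.S3742.result
      rw [Nat.card_congr (MulAut.congr e).toEquiv, Nat.card_congr f.toEquiv,
        Nat.card_eq_fintype_card, Fintype.card_perm, Fintype.card_fin]
      rfl
    rw [h1]
    rw [h3] at h2
    exact h2
  by_cases hcase : H ≤ Q ⊔ B
  · -- Case A: the image of `Γ` in `Out(Q)` has order dividing `3`
    have hHidx : H.index = 3 ^ c₀ := by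
      have := H.card_mul_index
      rw [hHcard, hcard] at this
      exact Nat.eq_of_mul_eq_mul_left (by omega : 0 < Nat.card V - 1) this
    have hidx1 : (Q ⊔ B).index ∣ 3 ^ c₀ := by
      rw [← hHidx]; exact Subgroup.index_dvd_of_le hcase
    have hidx2 : (Q ⊔ B).index ∣ 24 := (Subgroup.index_dvd_of_le le_sup_right).trans hBidx
    have hidx3 : (Q ⊔ B).index ∣ 3 := by
      have hc8 : ((Q ⊔ B).index).Coprime 8 :=
        Nat.Coprime.coprime_dvd_left hidx1 ((by decide : Nat.Coprime 3 8).pow_left c₀)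
      have h24 : (Q ⊔ B).index ∣ 8 * 3 := hidx2
      exact hc8.dvd_of_dvd_mul_left h24
    have hcomm : commutator Γ ≤ Q ⊔ B := by
      rw [← Subgroup.Normal.quotient_commutative_iff_commutator_le]
      have hc : Nat.card (Γ ⧸ (Q ⊔ B)) ∣ 3 := hidx3
      rcases (Nat.dvd_prime Nat.prime_three).mp hc with h1 | h3
      · haveI : Subsingleton (Γ ⧸ (Q ⊔ B)) := (Nat.card_eq_one_iff_unique.mp h1).1
        exact ⟨⟨fun x y => Subsingleton.elim _ _⟩⟩
      · haveI : Fact (Nat.Prime 3) := ⟨Nat.prime_three⟩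
        haveI : IsCyclic (Γ ⧸ (Q ⊔ B)) := isCyclic_of_prime_card h3
        exact ⟨⟨fun x y => (IsCyclic.commGroup).mul_comm x y⟩⟩
    have htM := hcomm htc
    have hset : (↑(Q ⊔ B) : Set Γ) = (Q : Set Γ) * (B : Set Γ) := Subgroup.mul_normal Q B
    have htM' : t ∈ (Q : Set Γ) * (B : Set Γ) := hset ▸ htM
    obtain ⟨s, hs, b, hb, hsb⟩ := Set.mem_mul.mp htM'
    have hαt : α t = α s := by
      rw [← hsb, map_mul, (show α b = 1 from hb), mul_one]
    have h8 : (α t) ^ 8 = 1 := by
      rw [hαt, ← map_pow]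
      have h8' : s ^ 8 = 1 := by
        have h0 := pow_card_eq_one' (G := Q) (x := ⟨s, hs⟩)
        rw [hQcard] at h0
        have h1 := congrArg Subtype.val h0
        rw [Subgroup.coe_pow] at h1
        exact h1
      rw [h8', map_one]
    have h3k : (α t) ^ 3 ^ k = 1 := by rw [← map_pow, htp, map_one]
    have hαt1 : α t = 1 := by
      have hd1 := orderOf_dvd_of_pow_eq_one h8
      have hd2 := orderOf_dvd_of_pow_eq_one h3k
      have : orderOf (α t) = 1 :=
        Nat.eq_one_of_dvd_coprimes ((by decide : Nat.Coprime 8 3).pow_right k) hd1 hd2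
      exact orderOf_eq_one_iff.mp this
    apply ht
    intro s hs
    rw [Subgroup.mem_centralizer_singleton_iff]
    exact (hBcomm t hαt1 s hs).symm
  · -- Case B: counting
    have hrel : Nat.card (B.subgroupOf H) * B.relIndex H = Nat.card H :=
      (B.subgroupOf H).card_mul_index
    have hrel_dvd : B.relIndex H ∣ 8 := by
      have h1 : B.relIndex H ∣ 24 := (Subgroup.relIndex_dvd_index_of_normal B H).trans hBidx
      have h2 : B.relIndex H ∣ Nat.card V - 1 := by
        rw [← hHcard, ← hrel]; exact dvd_mul_left _ _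
      have h3 : (B.relIndex H).Coprime 3 := Nat.Coprime.coprime_dvd_left h2 hcop1
      have h24 : B.relIndex H ∣ 3 * 8 := h1
      exact h3.dvd_of_dvd_mul_left h24
    -- quaternion generators
    obtain ⟨i, hi⟩ : ∃ i : Γ, i = ((e.symm (a 1) : Q) : Γ) := ⟨_, rfl⟩
    obtain ⟨j, hj⟩ : ∃ j : Γ, j = ((e.symm (xa 0) : Q) : Γ) := ⟨_, rfl⟩
    obtain ⟨z, hz⟩ : ∃ z : Γ, z = ((e.symm (a 2) : Q) : Γ) := ⟨_, rfl⟩
    have hiQ : i ∈ Q := hi ▸ (e.symm (a 1)).2
    have hjQ : j ∈ Q := hj ▸ (e.symm (xa 0)).2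
    have hzQ : z ∈ Q := hz ▸ (e.symm (a 2)).2
    have hii : i * i = z := by
      rw [hi, hz, ← Subgroup.coe_mul, ← map_mul]
      rfl
    have hjj : j * j = z := by
      rw [hj, hz, ← Subgroup.coe_mul, ← map_mul]
      rfl
    have hji : j * i = z * (i * j) := by
      rw [hi, hj, hz, ← Subgroup.coe_mul, ← Subgroup.coe_mul, ← Subgroup.coe_mul, ← map_mul,
        ← map_mul, ← map_mul]
      rfl
    have hzz : z * z = 1 := by
      rw [hz, ← Subgroup.coe_mul, ← map_mul]
      have : (a 2 * a 2 : QuaternionGroup 2) = 1 := by decide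
      rw [this, map_one, Subgroup.coe_one]
    have hz1 : z ≠ 1 := by
      rw [hz]
      intro h
      have h' : e.symm (a 2) = 1 := Subtype.ext h
      have h'' : (a 2 : QuaternionGroup 2) = 1 := by
        have := congrArg e h'
        rwa [MulEquiv.apply_symm_apply, map_one] at this
      exact absurd h'' (by decide)
    have hρz : ∀ x : V, ρ z x = x⁻¹ := by
      apply inv_of_fpf_aut (ρ z)
      · intro x
        rw [← MulAut.mul_apply, ← map_mul, hzz, map_one, MulAut.one_apply]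
      · intro x hx
        exact hHfpf z (hQH hzQ) hz1 x hx
    have haa : ∀ x : V, ρ i (ρ i x) = x⁻¹ := by
      intro x
      rw [← MulAut.mul_apply, ← map_mul, hii, hρz]
    have hbb : ∀ x : V, ρ j (ρ j x) = x⁻¹ := by
      intro x
      rw [← MulAut.mul_apply, ← map_mul, hjj, hρz]
    have hba : ∀ x : V, ρ j (ρ i x) = (ρ i (ρ j x))⁻¹ := by
      intro x
      rw [← MulAut.mul_apply, ← map_mul, hji, map_mul, map_mul, MulAut.mul_apply,
        MulAut.mul_apply, hρz]
    obtain ⟨U, hUcard, hU⟩ := half_card (ρ i) (ρ j) h3 haa hbb hba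
    -- `C_H(Q)` acts freely on `U \ {1}`
    have hYU : ∀ g : Γ, g ∈ B → ∀ x ∈ U, ρ g x ∈ U := by
      intro g hg x hx
      rw [hU] at hx ⊢
      have hgi : g * i = i * g := hBcomm g hg i hiQ
      have hgj : g * j = j * g := hBcomm g hg j hjQ
      have e1 : ρ i (ρ g x) = ρ g (ρ i x) := by
        rw [← MulAut.mul_apply, ← MulAut.mul_apply, ← map_mul, ← map_mul, hgi]
      have e2 : ρ j (ρ g x) = ρ g (ρ j x) := by
        rw [← MulAut.mul_apply, ← MulAut.mul_apply, ← map_mul, ← map_mul, hgj]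
      rw [e1, e2, ← map_mul, hx]
    let X : Type v := ↥((U : Set V) \ {1})
    let act : MulAction (B.subgroupOf H) X :=
      { smul := fun g x => ⟨ρ ((g : H) : Γ) x.1,
          hYU _ (Subgroup.mem_subgroupOf.mp g.2) x.1 x.2.1, fun h => x.2.2 (by
            have h' : ρ ((g : H) : Γ) x.1 = 1 := h
            have h'' : ρ ((g : H) : Γ) x.1 = ρ ((g : H) : Γ) 1 := by rw [h', map_one]
            exact (ρ ((g : H) : Γ)).injective h'')⟩
        one_smul := fun x => Subtype.ext (by
          show ρ (((1 : B.subgroupOf H) : H) : Γ) x.1 = x.1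
          rw [Subgroup.coe_one, Subgroup.coe_one, map_one]; rfl)
        mul_smul := fun g h x => Subtype.ext (by
          show ρ (((g * h : B.subgroupOf H) : H) : Γ) x.1 = ρ ((g : H) : Γ) (ρ ((h : H) : Γ) x.1)
          rw [Subgroup.coe_mul, Subgroup.coe_mul, map_mul]; rfl) }
    have hfree : ∀ x : X, MulAction.stabilizer (B.subgroupOf H) x = ⊥ := by
      intro x
      rw [eq_bot_iff]
      intro g hg
      rw [MulAction.mem_stabilizer_iff] at hg
      have hg' : ρ ((g : H) : Γ) x.1 = x.1 := congrArg Subtype.val hg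
      rw [Subgroup.mem_bot]
      by_contra hg1
      have hne : ((g : H) : Γ) ≠ 1 := fun h => hg1 (Subtype.ext (Subtype.ext h))
      exact x.2.2 (hHfpf _ (g : H).2 hne x.1 hg')
    have hdvd : Nat.card (B.subgroupOf H) ∣ Nat.card X :=
      Cfsg.Agent.Lib.Helper70.Frattini.card_dvd_of_free hfree
    have hXcard : Nat.card X = Nat.card U - 1 := by
      show Nat.card ↥((U : Set V) \ {1}) = Nat.card U - 1
      rw [Nat.card_coe_set_eq, Set.ncard_sdiff_singleton_of_mem (show (1 : V) ∈ (U : Set V) from U.one_mem)]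
      rfl
    rw [hXcard] at hdvd
    -- arithmetic
    have hu : Nat.card U = 3 := by
      have hupos : 0 < Nat.card U := Nat.card_pos
      have hypos : 0 < Nat.card (B.subgroupOf H) := Nat.card_pos
      obtain ⟨c, hc⟩ := hdvd
      have h1 : Nat.card (B.subgroupOf H) * B.relIndex H =
          Nat.card U * Nat.card U - 1 := by
        rw [hrel, hHcard, hUcard]
      have h2 : Nat.card U * Nat.card U - 1 = (Nat.card U - 1) * (Nat.card U + 1) := by
        obtain ⟨w, hw⟩ : ∃ w, Nat.card U = w + 1 := ⟨Nat.card U - 1, by omega⟩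
        rw [hw]
        have : (w + 1) * (w + 1) - 1 = w * (w + 1 + 1) := by
          have : (w + 1) * (w + 1) = w * (w + 1 + 1) + 1 := by ring
          omega
        rw [this]; simp
      have h4 : B.relIndex H = c * (Nat.card U + 1) := by
        have : Nat.card (B.subgroupOf H) * B.relIndex H =
            Nat.card (B.subgroupOf H) * (c * (Nat.card U + 1)) := by
          rw [h1, h2, hc]; ring
        exact Nat.eq_of_mul_eq_mul_left hypos this
      have h5 : Nat.card U + 1 ∣ 8 := (Dvd.intro_left c h4.symm).trans hrel_dvd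
      have h6 : Nat.card U + 1 ≤ 8 := Nat.le_of_dvd (by norm_num) h5
      have h7 : Nat.card U ∣ 3 ^ n := by
        rw [← hn, ← hUcard]; exact dvd_mul_right _ _
      obtain ⟨m, -, hm⟩ := (Nat.dvd_prime_pow Nat.prime_three).mp h7
      have hm0 : m ≠ 0 := by
        rintro rfl
        rw [pow_zero] at hm
        rw [hm] at hUcard
        omega
      have h8 : 3 ∣ Nat.card U := by rw [hm]; exact dvd_pow_self 3 hm0
      generalize Nat.card U = u at h5 h6 h8 hupos
      have h9 : u ≤ 7 := by omega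
      have h10 : 1 ≤ u := hupos
      clear h6 hupos
      interval_cases u <;> first | rfl | (exfalso; revert h5 h8; decide)
    have hH8 : Nat.card H = 8 := by
      rw [hHcard, ← hUcard, hu]
    have hQH' : Q = H := Subgroup.eq_of_le_of_card_ge hQH (by rw [hQcard, hH8])
    exact hcase (hQH' ▸ le_sup_left)

end Bad

section Key

/-- Automorphisms of odd order of a cyclic `2`-group are trivial. -/
theorem aut_cyclic_two {Q : Type u} [Group Q] [Finite Q] (hQ : IsPGroup 2 Q) [IsCyclic Q]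
    (τ : MulAut Q) (N : ℕ) (hN : Odd N) (hτ : τ ^ N = 1) : τ = 1 := by
  obtain ⟨m, hm⟩ := IsPGroup.iff_card.mp hQ
  have hcard : Nat.card (MulAut Q) = Nat.totient (2 ^ m) := by
    rw [← hm]; exact IsCyclic.card_mulAut Q
  have h2 : ∃ j, Nat.card (MulAut Q) = 2 ^ j := by
    rcases Nat.eq_zero_or_pos m with rfl | hm0
    · exact ⟨0, by rw [hcard]; simp⟩
    · exact ⟨m - 1, by rw [hcard, Nat.totient_prime_pow Nat.prime_two hm0]; simp⟩
  obtain ⟨j, hj⟩ := h2
  have h3 : τ ^ 2 ^ j = 1 := by rw [← hj]; exact pow_card_eq_one'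
  have hd1 := orderOf_dvd_of_pow_eq_one h3
  have hd2 := orderOf_dvd_of_pow_eq_one hτ
  have hcop : Nat.Coprime (2 ^ j) N := Nat.Coprime.pow_left j (Nat.coprime_two_left.mpr hN)
  exact orderOf_eq_one_iff.mp (Nat.eq_one_of_dvd_coprimes hcop hd1 hd2)

variable {Γ : Type u} {V : Type v} [Group Γ] [Finite Γ] [CommGroup V] [Finite V]

/-- **Main lemma.** A finite solvable group `Γ` with `O_p(Γ) = 1` acting on an elementary abelian
`p`-group `V` such that stabilizers of nonidentity elements are `p`-groups and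
`|Γ| = (|V| - 1) p^c`: the commutator subgroup of `Γ` has no nontrivial `p`-elements. -/
theorem key [Group.IsSolvable Γ] (p : ℕ) [Fact p.Prime] (ρ : Γ →* MulAut V)
    (hO : Cfsg.pCore p Γ = ⊥) (hV : ∀ x : V, x ^ p = 1)
    (hfix : ∀ g : Γ, ∀ x : V, x ≠ 1 → ρ g x = x → ∃ k : ℕ, g ^ p ^ k = 1)
    (c₀ : ℕ) (hcard : Nat.card Γ = (Nat.card V - 1) * p ^ c₀)
    (t : Γ) (htc : t ∈ commutator Γ) (k : ℕ) (htp : t ^ p ^ k = 1) : t = 1 := by
  classical
  have hpp : p.Prime := Fact.out
  by_contra ht1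
  have hV2 : 2 ≤ Nat.card V := by
    by_contra h
    have hVpos : 0 < Nat.card V := Nat.card_pos
    have h0 : Nat.card V - 1 = 0 := by omega
    rw [h0, zero_mul] at hcard
    exact (Nat.card_pos (α := Γ)).ne' hcard
  haveI : Nontrivial V := Finite.one_lt_card_iff_nontrivial.mp hV2
  -- elements of order prime to `p` act without fixed points
  have hfpf : ∀ g : Γ, (orderOf g).Coprime p → g ≠ 1 → ∀ x : V, ρ g x = x → x = 1 := by
    intro g hg hg1 x hx
    by_contra hx1
    obtain ⟨j, hj⟩ := hfix g x hx1 hx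
    have hd := orderOf_dvd_of_pow_eq_one hj
    have : orderOf g = 1 := Nat.eq_one_of_dvd_coprimes (hg.pow_right j) dvd_rfl hd
    exact hg1 (orderOf_eq_one_iff.mp this)
  have hAq : ∀ q : ℕ, q.Prime → q ≠ p → ∀ s ∈ Cfsg.pCore q Γ, (orderOf s).Coprime p := by
    intro q hq hqp s hs
    obtain ⟨j, hj⟩ := (Cfsg.Agent.Lib.Helper47.Basic.pCore_isPGroup q Γ) ⟨s, hs⟩
    have hj' : s ^ q ^ j = 1 := by
      have h1 := congrArg Subtype.val hj
      rw [Subgroup.coe_pow] at h1
      exact h1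
    have hdvd := orderOf_dvd_of_pow_eq_one hj'
    exact Nat.Coprime.coprime_dvd_left hdvd (((Nat.coprime_primes hq hpp).mpr hqp).pow_left j)
  have hUIq : ∀ q : ℕ, q.Prime → q ≠ p → UI q (Cfsg.pCore q Γ) := by
    intro q hq hqp
    haveI : Fact q.Prime := ⟨hq⟩
    exact ui_of_fpf_aut ρ (Cfsg.pCore q Γ) (Cfsg.Agent.Lib.Helper47.Basic.pCore_isPGroup q Γ)
      (fun s hs hs1 x hx => hfpf s (hAq q hq hqp s hs) hs1 x hx)
  -- `t` centralizes `O_q(Γ)` for odd `q`
  have hcent_odd : ∀ q : ℕ, q.Prime → q ≠ 2 → Cfsg.pCore q Γ ≤ Subgroup.centralizer {t} := by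
    intro q hq hq2
    by_cases hqp : q = p
    · rw [hqp, hO]; exact bot_le
    · haveI : Fact q.Prime := ⟨hq⟩
      haveI := Cfsg.Agent.Lib.Helper47.Basic.pCore_normal q Γ
      haveI : IsCyclic (Cfsg.pCore q Γ) :=
        isCyclic_of_odd hq2 _ _ rfl (Cfsg.Agent.Lib.Helper47.Basic.pCore_isPGroup q Γ)
          (hUIq q hq hqp)
      have h1 := Cfsg.Agent.S3857.commutator_le_centralizer_of_cyclic (Cfsg.pCore q Γ) htc
      intro s hs
      rw [Subgroup.mem_centralizer_singleton_iff]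
      exact (Subgroup.mem_centralizer_iff.mp h1 s hs)
  -- hence `t` does not centralize `O_2(Γ)`
  have hQnc : ¬ (Cfsg.pCore 2 Γ ≤ Subgroup.centralizer {t}) := by
    intro hQ
    have hF : Cfsg.fittingSubgroup Γ ≤ Subgroup.centralizer {t} := by
      rw [Cfsg.Agent.S0009.result]
      apply iSup_le
      intro q
      by_cases h2 : (q : ℕ) = 2
      · rw [h2]; exact hQ
      · exact hcent_odd q q.2 h2
    have htF : t ∈ Subgroup.centralizer (Cfsg.fittingSubgroup Γ : Set Γ) := by
      rw [Subgroup.mem_centralizer_iff]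
      intro f hf
      have := hF hf
      rw [Subgroup.mem_centralizer_singleton_iff] at this
      exact this
    have htF' := Cfsg.Agent.S0552.centralizer_fitting_le htF
    have := Cfsg.Agent.Lib.Helper21.Bender1.mem_pCore_of_mem_fitting p htF' ⟨k, htp⟩
    rw [hO] at this
    exact ht1 (Subgroup.mem_bot.mp this)
  have hp2 : p ≠ 2 := by
    rintro rfl
    exact hQnc (by rw [hO]; exact bot_le)
  have hpodd : Odd (p ^ k) := (hpp.odd_of_ne_two hp2).pow
  haveI hQn : (Cfsg.pCore 2 Γ).Normal := Cfsg.Agent.Lib.Helper47.Basic.pCore_normal 2 Γ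
  have hQ2 : IsPGroup 2 (Cfsg.pCore 2 Γ) := Cfsg.Agent.Lib.Helper47.Basic.pCore_isPGroup 2 Γ
  have hUI2 : UI 2 (Cfsg.pCore 2 Γ) := hUIq 2 Nat.prime_two (Ne.symm hp2)
  -- the automorphism of `O_2(Γ)` induced by `t`
  obtain ⟨τ, hτdef⟩ : ∃ τ : MulAut (Cfsg.pCore 2 Γ), τ = MulAut.conjNormal t := ⟨_, rfl⟩
  have hτ1 : τ ≠ 1 := by
    intro h
    apply hQnc
    intro s hs
    rw [Subgroup.mem_centralizer_singleton_iff]
    have h1 : ((τ ⟨s, hs⟩ : Cfsg.pCore 2 Γ) : Γ) = s := by rw [h]; rfl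
    rw [hτdef, MulAut.conjNormal_apply] at h1
    calc s * t = t * s * t⁻¹ * t := by rw [h1]
      _ = t * s := by group
  have hτp : τ ^ p ^ k = 1 := by
    rw [hτdef, ← map_pow, htp, map_one]
  rcases Cfsg.Agent.Lib.Helper54.Quaternion.isCyclic_or_quaternion hQ2 hUI2 with hcyc | ⟨n, ⟨e⟩⟩
  · exact hτ1 (aut_cyclic_two hQ2 τ (p ^ k) hpodd hτp)
  · -- quaternion case
    obtain ⟨τ', hτ'def⟩ : ∃ τ' : MulAut (QuaternionGroup (2 ^ n)), τ' = MulAut.congr e τ :=
      ⟨_, rfl⟩
    have hτ'p : τ' ^ p ^ k = 1 := by rw [hτ'def, ← map_pow, hτp, map_one]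
    have hτ'1 : τ' ≠ 1 := by
      intro h
      rw [hτ'def] at h
      exact hτ1 ((MulAut.congr e).injective (h.trans (map_one _).symm))
    rcases Nat.lt_or_ge n 2 with hn2 | hn2
    · interval_cases n
      · -- `QuaternionGroup 1` is cyclic
        haveI : IsCyclic (QuaternionGroup (2 ^ 0)) := QuaternionGroup.quaternionGroup_one_isCyclic
        haveI : IsCyclic (Cfsg.pCore 2 Γ) :=
          isCyclic_of_surjective e.symm.toMonoidHom e.symm.surjective
        exact hτ1 (aut_cyclic_two hQ2 τ (p ^ k) hpodd hτp)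
      · -- `Q_8`: here `p = 3` and we are in the bad case
        have e2 : (Cfsg.pCore 2 Γ) ≃* QuaternionGroup 2 := e
        have h12 : τ' ^ 12 = 1 := Cfsg.Agent.Lib.Helper2.SL23.aut_pow_twelve τ'
        have hp3 : p = 3 := by
          by_contra hp3
          have hcop : Nat.Coprime 12 (p ^ k) := by
            apply Nat.Coprime.pow_right
            rw [Nat.coprime_comm, Nat.Prime.coprime_iff_not_dvd hpp]
            intro hd
            have h12' : (12 : ℕ) = 2 ^ 2 * 3 := by norm_num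
            rw [h12'] at hd
            rcases (Nat.Prime.dvd_mul hpp).mp hd with h | h
            · exact hp2 ((Nat.prime_dvd_prime_iff_eq hpp Nat.prime_two).mp (hpp.dvd_of_dvd_pow h))
            · exact hp3 ((Nat.prime_dvd_prime_iff_eq hpp Nat.prime_three).mp h)
          have hd1 := orderOf_dvd_of_pow_eq_one h12
          have hd2 := orderOf_dvd_of_pow_eq_one hτ'p
          exact hτ'1 (orderOf_eq_one_iff.mp (Nat.eq_one_of_dvd_coprimes hcop hd1 hd2))
        subst hp3
        exact bad_case ρ hV hfix c₀ hcard hV2 (Cfsg.pCore 2 Γ) e2 t htc k htp hQnc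
    · exact hτ'1 (Cfsg.Agent.H85.quaternion_aut_eq_one_of_odd n hn2 τ' (p ^ k) hpodd hτ'p)

end Key

end Cfsg.Agent.Lib.Lead.GagolaSolv
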