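import Mathlib
import Cfsg.Prelude.Def_KGroupFacts

/-!
# `typeB_data` (piece R6a of helper84's split of S5289)

A `p`-group `S` with an abelian subgroup `A` of index `p`, `|S : Z(S)| = p ^ 3` and
`Z₂(S) ≤ A`: structure of `P = Z₂(S)⟨x⟩` for `x ∉ A`.
-/

namespace Cfsg.Agent.Lib.Lead.TypeB

/-- The inner automorphism group has order the index of the centre. -/
theorem card_inn_eq_index_center (H : Type*) [Group H] :
    Nat.card (Cfsg.Inn H) = (Subgroup.center H).index := by
  have hk : (MulAut.conj : H →* MulAut H).ker = Subgroup.center H := by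
    ext g
    rw [MonoidHom.mem_ker, Subgroup.mem_center_iff]
    constructor
    · intro h y
      have h1 := congrArg (fun f : MulAut H => f y) h
      simp only [MulAut.conj_apply, MulAut.one_apply] at h1
      calc y * g = (g * y * g⁻¹) * g := by rw [h1]
        _ = g * y := by group
    · intro h
      ext y
      simp only [MulAut.conj_apply, MulAut.one_apply]
      calc g * y * g⁻¹ = (y * g) * g⁻¹ := by rw [h y]
        _ = y := by group
  rw [← hk, Subgroup.index_ker]

/-- The internal statement. -/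
theorem core {G : Type*} [Group G] [Finite G] (p : ℕ) [Fact p.Prime]
    (hG : IsPGroup p G) (hna : ¬ IsMulCommutative G) (A : Subgroup G)
    (hAc : ∀ a ∈ A, ∀ b ∈ A, a * b = b * a) (hAi : A.index = p)
    (hZ3 : (Subgroup.center G).index = p ^ 3)
    (x : G) (hxA : x ∉ A)
    (hZ2 : Subgroup.upperCentralSeries G 2 ≤ A) :
    (Subgroup.upperCentralSeries G 2 ⊔ Subgroup.zpowers x).Normal ∧
    (Subgroup.upperCentralSeries G 2 ⊔ Subgroup.zpowers x).index = p ∧
    (∀ u ∈ Subgroup.upperCentralSeries G 2 ⊔ Subgroup.zpowers x,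
      (∀ v ∈ Subgroup.upperCentralSeries G 2 ⊔ Subgroup.zpowers x, u * v = v * u) →
        u ∈ Subgroup.center G) ∧
    Subgroup.center G ≤ A ∧ Subgroup.center G ≤ Subgroup.upperCentralSeries G 2 := by
  have hp : p.Prime := Fact.out
  -- maximality of `A`
  have hM : ∀ K : Subgroup G, A ≤ K → (∃ g ∈ K, g ∉ A) → K = ⊤ := by
    intro K hAK ⟨g, hgK, hgA⟩
    have hdvd : K.index ∣ p := hAi ▸ Subgroup.index_dvd_of_le hAK
    rcases (Nat.dvd_prime hp).1 hdvd with h1 | h1
    · exact Subgroup.index_eq_one.1 h1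
    · exfalso
      have h2 := Subgroup.relIndex_mul_index hAK
      rw [h1, hAi] at h2
      have h3 : A.relIndex K = 1 := by
        have hp0 : 0 < p := hp.pos
        exact Nat.eq_of_mul_eq_mul_right hp0 (by rw [h2, one_mul])
      exact hgA (Subgroup.relIndex_eq_one.1 h3 hgK)
  -- centralizer criterion
  have hcent : ∀ u : G, (∀ a ∈ A, u * a = a * u) → (∃ g, g ∉ A ∧ u * g = g * u) →
      u ∈ Subgroup.center G := by
    intro u hu ⟨g, hgA, hg⟩
    have hK : Subgroup.centralizer ({u} : Set G) = ⊤ := by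
      apply hM
      · intro a ha
        rw [Subgroup.mem_centralizer_iff]
        intro h hh
        rw [Set.mem_singleton_iff] at hh
        subst hh
        exact hu a ha
      · refine ⟨g, ?_, hgA⟩
        rw [Subgroup.mem_centralizer_iff]
        intro h hh
        rw [Set.mem_singleton_iff] at hh
        subst hh
        exact hg
    rw [Subgroup.mem_center_iff]
    intro g'
    have : g' ∈ Subgroup.centralizer ({u} : Set G) := hK ▸ Subgroup.mem_top g'
    rw [Subgroup.mem_centralizer_iff] at this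
    exact (this u rfl).symm
  -- `Z ≤ A`
  have hZA : Subgroup.center G ≤ A := by
    intro z hz
    by_contra hzA
    apply hna
    have hAZ : A ≤ Subgroup.center G := by
      intro a ha
      apply hcent a (fun b hb => hAc a ha b hb)
      exact ⟨z, hzA, Subgroup.mem_center_iff.1 hz a⟩
    have htop : Subgroup.center G = ⊤ := hM _ hAZ ⟨z, hz, hzA⟩
    refine ⟨⟨fun a b => ?_⟩⟩
    have hb : b ∈ Subgroup.center G := htop ▸ Subgroup.mem_top b
    exact Subgroup.mem_center_iff.1 hb a
  have hZZ2 : Subgroup.center G ≤ Subgroup.upperCentralSeries G 2 := by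
    rw [← Subgroup.upperCentralSeries_one]
    exact Subgroup.upperCentralSeries_mono G (by norm_num)
  -- an element of `Z₂ \ Z`
  have hex : ∃ g ∈ Subgroup.upperCentralSeries G 2, g ∉ Subgroup.center G := by
    have hcard : Nat.card (G ⧸ Subgroup.center G) = p ^ 3 := by
      rw [← Subgroup.index_eq_card, hZ3]
    have : Nontrivial (G ⧸ Subgroup.center G) := by
      apply (Finite.one_lt_card_iff_nontrivial).1
      rw [hcard]
      exact Nat.one_lt_pow (by norm_num) hp.one_lt
    have hQ : IsPGroup p (G ⧸ Subgroup.center G) := hG.to_quotient _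
    have := hQ.center_nontrivial
    obtain ⟨⟨c, hc⟩, hc1⟩ := exists_ne (1 : Subgroup.center (G ⧸ Subgroup.center G))
    obtain ⟨g, rfl⟩ := QuotientGroup.mk_surjective c
    refine ⟨g, ?_, ?_⟩
    · rw [show (2 : ℕ) = 1 + 1 from rfl, Subgroup.mem_upperCentralSeries_succ_iff]
      intro y
      rw [Subgroup.upperCentralSeries_one, ← QuotientGroup.eq_one_iff, commutatorElement_def]
      have h1 := Subgroup.mem_center_iff.1 hc (QuotientGroup.mk y)
      simp only [QuotientGroup.mk_mul, QuotientGroup.mk_inv]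
      rw [← h1]
      group
    · intro hg
      apply hc1
      apply Subtype.ext
      exact (QuotientGroup.eq_one_iff g).2 hg
  obtain ⟨g0, hg0Z2, hg0Z⟩ := hex
  have hxZ2 : x ∉ Subgroup.upperCentralSeries G 2 := fun h => hxA (hZ2 h)
  -- index of `Z₂`
  have hZ2i : (Subgroup.upperCentralSeries G 2).index = p ^ 2 := by
    have hd : (Subgroup.upperCentralSeries G 2).index ∣ p ^ 3 :=
      hZ3 ▸ Subgroup.index_dvd_of_le hZZ2
    obtain ⟨k, hk3, hk⟩ := (Nat.dvd_prime_pow hp).1 hd
    have hd2 : p ∣ (Subgroup.upperCentralSeries G 2).index :=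
      hAi ▸ Subgroup.index_dvd_of_le hZ2
    have hk0 : k ≠ 0 := by
      rintro rfl
      rw [hk, pow_zero] at hd2
      exact hp.one_lt.ne' (Nat.dvd_one.1 hd2)
    have hk1 : k ≠ 1 := by
      rintro rfl
      rw [pow_one] at hk
      -- then `A ≤ Z₂`
      have h2 := Subgroup.relIndex_mul_index hZ2
      rw [hk, hAi] at h2
      have h3 : (Subgroup.upperCentralSeries G 2).relIndex A = 1 :=
        Nat.eq_of_mul_eq_mul_right hp.pos (by rw [h2, one_mul])
      have hAZ2 : A ≤ Subgroup.upperCentralSeries G 2 := Subgroup.relIndex_eq_one.1 h3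
      apply hxZ2
      rw [show (2 : ℕ) = 1 + 1 from rfl, Subgroup.mem_upperCentralSeries_succ_iff]
      -- the subgroup of elements commuting with `x` modulo the centre
      have hK : (Subgroup.centralizer
          ({(QuotientGroup.mk x : G ⧸ Subgroup.center G)} : Set (G ⧸ Subgroup.center G))).comap
            (QuotientGroup.mk' (Subgroup.center G)) = ⊤ := by
        apply hM
        · intro a ha
          rw [Subgroup.mem_comap, Subgroup.mem_centralizer_iff]
          intro h hh
          rw [Set.mem_singleton_iff] at hh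
          subst hh
          have ha2 := hAZ2 ha
          rw [show (2 : ℕ) = 1 + 1 from rfl, Subgroup.mem_upperCentralSeries_succ_iff] at ha2
          have h4 := ha2 x
          rw [Subgroup.upperCentralSeries_one, ← QuotientGroup.eq_one_iff,
            commutatorElement_def] at h4
          simp only [QuotientGroup.mk_mul, QuotientGroup.mk_inv, QuotientGroup.mk'_apply] at h4 ⊢
          calc (QuotientGroup.mk x : G ⧸ Subgroup.center G) * QuotientGroup.mk a
              = ((QuotientGroup.mk a : G ⧸ Subgroup.center G) * QuotientGroup.mk x *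
                (QuotientGroup.mk a)⁻¹ * (QuotientGroup.mk x)⁻¹)⁻¹ *
                  ((QuotientGroup.mk a : G ⧸ Subgroup.center G) * QuotientGroup.mk x) := by
                group
            _ = QuotientGroup.mk a * QuotientGroup.mk x := by rw [h4]; group
        · refine ⟨x, ?_, hxA⟩
          rw [Subgroup.mem_comap, Subgroup.mem_centralizer_iff]
          intro h hh
          rw [Set.mem_singleton_iff] at hh
          subst hh
          rfl
      intro y
      have hy : y ∈ (Subgroup.centralizer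
          ({(QuotientGroup.mk x : G ⧸ Subgroup.center G)} : Set (G ⧸ Subgroup.center G))).comap
            (QuotientGroup.mk' (Subgroup.center G)) := hK ▸ Subgroup.mem_top y
      rw [Subgroup.mem_comap, Subgroup.mem_centralizer_iff] at hy
      have h5 := hy _ rfl
      rw [Subgroup.upperCentralSeries_one, ← QuotientGroup.eq_one_iff, commutatorElement_def]
      simp only [QuotientGroup.mk_mul, QuotientGroup.mk_inv, QuotientGroup.mk'_apply] at h5 ⊢
      rw [h5]
      group
    have hk3' : k ≠ 3 := by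
      rintro rfl
      have h2 := Subgroup.relIndex_mul_index hZZ2
      rw [hk, hZ3] at h2
      have h3 : (Subgroup.center G).relIndex (Subgroup.upperCentralSeries G 2) = 1 :=
        Nat.eq_of_mul_eq_mul_right (pow_pos hp.pos 3) (by rw [h2, one_mul])
      exact hg0Z (Subgroup.relIndex_eq_one.1 h3 hg0Z2)
    have : k = 2 := by omega
    rw [hk, this]
  -- `A` is normal and `x ^ p ∈ Z`
  have hAn : A.Normal := by
    apply Subgroup.normal_of_index_eq_minFac_card
    obtain ⟨n, hn⟩ := IsPGroup.iff_card.1 hG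
    have hn0 : n ≠ 0 := by
      rintro rfl
      rw [pow_zero] at hn
      have := Subgroup.card_mul_index A
      rw [hn, hAi] at this
      have h1 : p ≤ 1 := Nat.le_of_dvd one_pos ⟨Nat.card A, by rw [← this, mul_comm]⟩
      exact absurd hp.one_lt (by omega)
    rw [hAi, hn, hp.pow_minFac hn0]
  have hxpA : x ^ p ∈ A := hAi ▸ Subgroup.pow_index_mem A x
  have hxpZ : x ^ p ∈ Subgroup.center G := by
    apply hcent _ (fun a ha => hAc _ hxpA a ha)
    exact ⟨x, hxA, by rw [← pow_succ, ← pow_succ']⟩
  -- the quotient by `Z₂`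
  have hcard2 : Nat.card (G ⧸ Subgroup.upperCentralSeries G 2) = p ^ 2 := by
    rw [← Subgroup.index_eq_card, hZ2i]
  have hcomm2 : ∀ a b : G ⧸ Subgroup.upperCentralSeries G 2, a * b = b * a := by
    have hc := IsPGroup.isMulCommutative_of_card_eq_prime_sq hcard2
    exact fun a b => hc.is_comm.comm a b
  have hPeq : Subgroup.upperCentralSeries G 2 ⊔ Subgroup.zpowers x =
      (Subgroup.zpowers (QuotientGroup.mk x : G ⧸ Subgroup.upperCentralSeries G 2)).comap
        (QuotientGroup.mk' (Subgroup.upperCentralSeries G 2)) := by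
    have h1 := Subgroup.comap_map_eq (QuotientGroup.mk' (Subgroup.upperCentralSeries G 2))
      (Subgroup.zpowers x)
    rw [MonoidHom.map_zpowers, QuotientGroup.ker_mk'] at h1
    rw [sup_comm]
    exact h1.symm
  have hord : orderOf (QuotientGroup.mk x : G ⧸ Subgroup.upperCentralSeries G 2) = p := by
    apply orderOf_eq_prime
    · rw [← QuotientGroup.mk_pow, QuotientGroup.eq_one_iff]
      exact hZZ2 hxpZ
    · intro h
      exact hxZ2 ((QuotientGroup.eq_one_iff x).1 h)
  have hPi : (Subgroup.upperCentralSeries G 2 ⊔ Subgroup.zpowers x).index = p := by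
    rw [hPeq, Subgroup.index_comap_of_surjective _ (QuotientGroup.mk'_surjective _)]
    have h1 := Subgroup.card_mul_index
      (Subgroup.zpowers (QuotientGroup.mk x : G ⧸ Subgroup.upperCentralSeries G 2))
    rw [Nat.card_zpowers, hord, hcard2, pow_two] at h1
    exact Nat.eq_of_mul_eq_mul_left hp.pos h1
  have hPn : (Subgroup.upperCentralSeries G 2 ⊔ Subgroup.zpowers x).Normal := by
    rw [hPeq]
    refine ⟨fun n hn g => ?_⟩
    rw [Subgroup.mem_comap] at hn ⊢
    have : (QuotientGroup.mk' (Subgroup.upperCentralSeries G 2)) (g * n * g⁻¹) =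
        (QuotientGroup.mk' (Subgroup.upperCentralSeries G 2)) n := by
      rw [map_mul, map_mul, map_inv, hcomm2 _ ((QuotientGroup.mk' _) n), mul_assoc,
        mul_inv_cancel, mul_one]
    rw [this]
    exact hn
  refine ⟨hPn, hPi, ?_, hZA, hZZ2⟩
  intro u huP hu
  by_cases huA : u ∈ A
  · apply hcent u (fun a ha => hAc u huA a ha)
    exact ⟨x, hxA, hu x (Subgroup.mem_sup_right (Subgroup.mem_zpowers x))⟩
  · exfalso
    apply hg0Z
    apply hcent g0 (fun a ha => hAc g0 (hZ2 hg0Z2) a ha)
    exact ⟨u, huA, (hu g0 (Subgroup.mem_sup_left hg0Z2)).symm⟩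

/-- [R6a] the subgroup `Z₂(S)⟨x⟩` when `S` has a unique abelian subgroup `A` of index `p` and
`|S : Z(S)| = p ^ 3` (verbatim signature of helper84's board post #1276). -/
theorem typeB_data {Ω : Type*} [Group Ω] {S : Subgroup Ω} [Finite S] (p : ℕ) [Fact p.Prime]
    (hS : IsPGroup p S) (hna : ¬ IsMulCommutative ↥S) (A : Subgroup Ω)
    (hA : A ≤ S ∧ IsMulCommutative ↥A ∧ (A.subgroupOf S).index = p)
    (hZ3 : (Subgroup.center ↥S).index = p ^ 3)
    (x : Ω) (hxS : x ∈ S) (hxA : x ∉ A)
    (hZ2 : (Subgroup.upperCentralSeries ↥S 2).map S.subtype ≤ A)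
    (P : Subgroup Ω)
    (hPdef : P = (Subgroup.upperCentralSeries ↥S 2).map S.subtype ⊔ Subgroup.zpowers x) :
    Nat.card (Cfsg.Inn ↥P) = p ^ 2 ∧
      (∀ u ∈ P, (∀ v ∈ P, u * v = v * u) → u ∈ A ∧ ∀ s ∈ S, s * u = u * s) ∧
      ∃ t ∈ S, t ∈ Subgroup.normalizer (P : Set Ω) ∧ t ∉ P ∧ t ^ p ∈ P ∧
        P ⊔ Subgroup.zpowers t = S := by
  have hp : p.Prime := Fact.out
  obtain ⟨hAS, hAcomm, hAi⟩ := hA
  have hAc : ∀ a ∈ A.subgroupOf S, ∀ b ∈ A.subgroupOf S, a * b = b * a := by
    intro a ha b hb
    rw [Subgroup.mem_subgroupOf] at ha hb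
    have h1 := hAcomm.is_comm.comm (⟨a, ha⟩ : ↥A) ⟨b, hb⟩
    apply Subtype.ext
    have h3 : ((a : Ω) * (b : Ω)) = (b : Ω) * (a : Ω) := congrArg Subtype.val h1
    exact h3
  have hxA' : (⟨x, hxS⟩ : ↥S) ∉ A.subgroupOf S := by
    rw [Subgroup.mem_subgroupOf]
    exact hxA
  have hZ2' : Subgroup.upperCentralSeries ↥S 2 ≤ A.subgroupOf S := by
    intro g hg
    rw [Subgroup.mem_subgroupOf]
    exact hZ2 (Subgroup.mem_map_of_mem _ hg)
  obtain ⟨hPn, hPi, hcen, hZA, hZZ2⟩ :=
    core p hS hna (A.subgroupOf S) hAc hAi hZ3 ⟨x, hxS⟩ hxA' hZ2'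
  set P' : Subgroup ↥S := Subgroup.upperCentralSeries ↥S 2 ⊔ Subgroup.zpowers ⟨x, hxS⟩
    with hP'def
  have hP : P = P'.map S.subtype := by
    rw [hPdef, hP'def, Subgroup.map_sup, MonoidHom.map_zpowers]
    rfl
  have hPS : P ≤ S := by
    rw [hP]
    rintro _ ⟨w, -, rfl⟩
    exact w.2
  -- the second claim
  have h2 : ∀ u ∈ P, (∀ v ∈ P, u * v = v * u) →
      ∃ u' : ↥S, u' ∈ Subgroup.center ↥S ∧ (u' : Ω) = u := by
    intro u hu hcomm
    rw [hP] at hu
    obtain ⟨u', hu', rfl⟩ := hu
    refine ⟨u', hcen u' hu' ?_, rfl⟩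
    intro v hv
    apply Subtype.ext
    have hvP : (v : Ω) ∈ P := by
      rw [hP]
      exact Subgroup.mem_map_of_mem _ hv
    exact hcomm _ hvP
  refine ⟨?_, ?_, ?_⟩
  · -- the inner automorphism group
    rw [card_inn_eq_index_center]
    have hmap : (Subgroup.center ↥P).map P.subtype = (Subgroup.center ↥S).map S.subtype := by
      ext u
      constructor
      · rintro ⟨w, hw, rfl⟩
        have hw' : w ∈ Subgroup.center ↥P := hw
        obtain ⟨u', hu', hu'eq⟩ := h2 (w : Ω) w.2 (fun v hv => by
          have h5 := Subgroup.mem_center_iff.1 hw' ⟨v, hv⟩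
          have h6 : (v : Ω) * (w : Ω) = (w : Ω) * v := congrArg Subtype.val h5
          exact h6.symm)
        exact ⟨u', hu', hu'eq⟩
      · rintro ⟨z, hz, rfl⟩
        have hz' : z ∈ Subgroup.center ↥S := hz
        have hzP : (z : Ω) ∈ P := by
          rw [hP]
          exact Subgroup.mem_map_of_mem _ (Subgroup.mem_sup_left (hZZ2 hz'))
        refine ⟨⟨z, hzP⟩, ?_, rfl⟩
        show (⟨(z : Ω), hzP⟩ : ↥P) ∈ Subgroup.center ↥P
        rw [Subgroup.mem_center_iff]
        intro v
        apply Subtype.ext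
        have h5 := Subgroup.mem_center_iff.1 hz' ⟨v, hPS v.2⟩
        have h6 : (v : Ω) * (z : Ω) = (z : Ω) * v := congrArg Subtype.val h5
        exact h6
    have hc1 : Nat.card (Subgroup.center ↥P) = Nat.card (Subgroup.center ↥S) := by
      rw [← Subgroup.card_map_of_injective (Subgroup.subtype_injective P),
        ← Subgroup.card_map_of_injective (Subgroup.subtype_injective S), hmap]
    have hc2 : Nat.card ↥P = Nat.card ↥P' := by
      rw [hP]
      exact Subgroup.card_map_of_injective (Subgroup.subtype_injective S)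
    have e1 := Subgroup.card_mul_index (Subgroup.center ↥P)
    have e2 := Subgroup.card_mul_index (Subgroup.center ↥S)
    have e3 := Subgroup.card_mul_index P'
    rw [hc1, hc2] at e1
    rw [hZ3] at e2
    rw [hPi] at e3
    have hpos : 0 < Nat.card (Subgroup.center ↥S) := Nat.card_pos
    have e4 : Nat.card (Subgroup.center ↥S) * ((Subgroup.center ↥P).index * p) =
        Nat.card (Subgroup.center ↥S) * (p ^ 2 * p) := by
      calc Nat.card (Subgroup.center ↥S) * ((Subgroup.center ↥P).index * p)
          = (Nat.card (Subgroup.center ↥S) * (Subgroup.center ↥P).index) * p := by ring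
        _ = Nat.card ↥P' * p := by rw [e1]
        _ = Nat.card ↥S := e3
        _ = Nat.card (Subgroup.center ↥S) * p ^ 3 := e2.symm
        _ = Nat.card (Subgroup.center ↥S) * (p ^ 2 * p) := by ring
    have e5 := Nat.eq_of_mul_eq_mul_left hpos e4
    exact Nat.eq_of_mul_eq_mul_right hp.pos e5
  · intro u hu hcomm
    obtain ⟨u', hu', rfl⟩ := h2 u hu hcomm
    refine ⟨Subgroup.mem_subgroupOf.1 (hZA hu'), fun s hs => ?_⟩
    have := Subgroup.mem_center_iff.1 hu' ⟨s, hs⟩
    exact congrArg Subtype.val this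
  · -- the element `t`
    have hne : P' ≠ ⊤ := by
      intro h
      rw [h, Subgroup.index_top] at hPi
      exact hp.one_lt.ne hPi
    obtain ⟨t', ht'⟩ : ∃ t' : ↥S, t' ∉ P' := by
      by_contra hcon
      exact hne ((Subgroup.eq_top_iff' P').2
        (fun g => by_contra (fun hg => hcon ⟨g, hg⟩)))
    refine ⟨(t' : Ω), t'.2, ?_, ?_, ?_, ?_⟩
    · rw [Subgroup.mem_normalizer_iff]
      intro h
      rw [hP]
      constructor
      · rintro ⟨h', hh', rfl⟩
        exact ⟨t' * h' * t'⁻¹, hPn.conj_mem h' hh' t', rfl⟩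
      · rintro ⟨k', hk', hk'eq⟩
        refine ⟨t'⁻¹ * k' * t'⁻¹⁻¹, hPn.conj_mem k' hk' t'⁻¹, ?_⟩
        simp only [Subgroup.coe_subtype, Subgroup.coe_mul, Subgroup.coe_inv, inv_inv] at hk'eq ⊢
        rw [hk'eq]
        group
    · rw [hP]
      rintro ⟨w, hw, hweq⟩
      have : w = t' := Subtype.ext hweq
      exact ht' (this ▸ hw)
    · rw [hP]
      have h1 : t' ^ p ∈ P' := by
        have := Subgroup.pow_index_mem P' t'
        rwa [hPi] at this
      exact ⟨t' ^ p, h1, rfl⟩
    · have htop : P' ⊔ Subgroup.zpowers t' = ⊤ := by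
        have hle : P' ≤ P' ⊔ Subgroup.zpowers t' := le_sup_left
        have hdvd : (P' ⊔ Subgroup.zpowers t').index ∣ p := hPi ▸ Subgroup.index_dvd_of_le hle
        rcases (Nat.dvd_prime hp).1 hdvd with h1 | h1
        · exact Subgroup.index_eq_one.1 h1
        · exfalso
          have h2' := Subgroup.relIndex_mul_index hle
          rw [h1, hPi] at h2'
          have h3 : P'.relIndex (P' ⊔ Subgroup.zpowers t') = 1 :=
            Nat.eq_of_mul_eq_mul_right hp.pos (by rw [h2', one_mul])
          exact ht' (Subgroup.relIndex_eq_one.1 h3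
            (Subgroup.mem_sup_right (Subgroup.mem_zpowers t')))
      have h4 : P ⊔ Subgroup.zpowers (t' : Ω) = (P' ⊔ Subgroup.zpowers t').map S.subtype := by
        rw [Subgroup.map_sup, MonoidHom.map_zpowers, hP]
        rfl
      rw [h4, htop, ← MonoidHom.range_eq_map, Subgroup.range_subtype]

end Cfsg.Agent.Lib.Lead.TypeB
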