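import Mathlib
import Cfsg.Prelude.Def_Characters
import Cfsg.Prelude.Def_Blocks
import Cfsg.Agent.Lib.Lead.BrHalfStmt

/-!
# S0997, part T: statements of the pieces

Setting (`TCtx G p`): `G` a finite non-abelian simple group of order `2 ^ b * p * (e + 1)`,
`p = 2 e + 1` a prime, `e = 2 ^ j ≥ 4`, `x` of order `p` with `C_G(x) = ⟨x⟩`, `n e = 2 ^ b (e + 1)`
for the number `n` of Sylow `p`-subgroups, two irreducible characters `θ₁, θ₂` with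
`θ₁ (x ^ a) = 1 + per p ζ a`, `θ₂ (x ^ a) = 1 + per p ζ (a ν)` (`ν` a non-square, `per` the Gauss
period of `BrHalf`), equal on the `p`-regular elements, and a set `X` of `e` irreducible characters
with `χ (x ^ a) = εX χ = ± 1` for `p ∤ a`.
Goal (`Goal`): `Nat.card G < p ^ 3`.

Every `def` below with value in `Prop` is the exact statement of one piece; a piece `Y` is a
theorem `main : Cfsg.Agent.Lib.Lead.Tuan.Y` (possibly with earlier pieces as hypotheses).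
Sums over subsets of `G` are written `∑ g : G, if … then … else 0` (classical decidability).
-/

set_option autoImplicit false

namespace Cfsg.Agent.Lib.Lead.Tuan

open Cfsg Cfsg.Agent.Lib.Lead.BrHalf
open scoped ComplexConjugate Classical

universe u

/-- The setting of part T. -/
structure TCtx (G : Type u) [Group G] [Fintype G] (p : ℕ) [Fact p.Prime] where
  e : ℕ
  b : ℕ
  j : ℕ
  hj : 2 ≤ j
  he : e = 2 ^ j
  hp : p = 2 * e + 1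
  hcard : Nat.card G = 2 ^ b * p * (e + 1)
  hsimple : IsSimpleGroup G
  hnc : ¬ ∀ g h : G, g * h = h * g
  x : G
  hx : orderOf x = p
  hC : ∀ g : G, g * x = x * g → ∃ a : ℕ, g = x ^ a
  hn : Nat.card (Sylow p G) * e = 2 ^ b * (e + 1)
  ζ : ℂ
  hζ : IsPrimitiveRoot ζ p
  ν : ℕ
  hν : ¬ IsSquare ((ν : ℕ) : ZMod p)
  θ₁ : IrrCharacter G
  θ₂ : IrrCharacter G
  hθ₁ : ∀ a : ℕ, (θ₁ : G → ℂ) (x ^ a) = 1 + per p ζ a
  hθ₂ : ∀ a : ℕ, (θ₂ : G → ℂ) (x ^ a) = 1 + per p ζ (a * ν)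
  hreg : ∀ g : G, ¬ p ∣ orderOf g → (θ₁ : G → ℂ) g = (θ₂ : G → ℂ) g
  X : Finset (IrrCharacter G)
  εX : IrrCharacter G → ℤ
  hXcard : X.card = e
  hXε : ∀ χ ∈ X, εX χ = 1 ∨ εX χ = -1
  hXval : ∀ χ ∈ X, ∀ a : ℕ, ¬ p ∣ a → (χ : G → ℂ) (x ^ a) = (εX χ : ℂ)

namespace TCtx

variable {G : Type u} [Group G] [Fintype G] {p : ℕ} [Fact p.Prime] (c : TCtx G p)

/-- the number of Sylow `p`-subgroups -/
noncomputable def n (_c : TCtx G p) : ℕ := Nat.card (Sylow p G)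

/-- `k` is a Galois exponent: `g ↦ g ^ k` fixes the `p`-regular elements and raises `x` to a
non-square power. -/
def GalK (_c : TCtx G p) (k : ℕ) : Prop :=
  k.Coprime (Nat.card G) ∧ ¬ IsSquare ((k : ℕ) : ZMod p) ∧ ∀ g : G, ¬ p ∣ orderOf g → g ^ k = g

/-- the transposition of `θ₁` and `θ₂` on the irreducible characters -/
noncomputable def sw (ψ : IrrCharacter G) : IrrCharacter G :=
  if ψ = c.θ₁ then c.θ₂ else if ψ = c.θ₂ then c.θ₁ else ψ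

end TCtx

/-! ## Level 0: Gauss periods (no groups); see also `BrHalf.PerMul … BrHalf.SqSum` (on main) -/

/-- the periods are real when `p ≡ 1 mod 4`. -/
def PerReal : Prop :=
  ∀ (p : ℕ) [Fact p.Prime], p % 4 = 1 → ∀ (ζ : ℂ), IsPrimitiveRoot ζ p → ∀ a : ℕ,
    conj (per p ζ a) = per p ζ a

/-- `∑_{a < p} per a = 0`. -/
def PerTot : Prop :=
  ∀ (p : ℕ) [Fact p.Prime], p ≠ 2 → ∀ (ζ : ℂ), IsPrimitiveRoot ζ p →
    ∑ a ∈ Finset.range p, per p ζ a = 0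

/-- `∑_{a < p} (per a)^2 = p (p - 1) / 2` when `p ≡ 1 mod 4`. -/
def PerSqTot : Prop :=
  ∀ (p : ℕ) [Fact p.Prime], p % 4 = 1 → ∀ (ζ : ℂ), IsPrimitiveRoot ζ p →
    ∑ a ∈ Finset.range p, per p ζ a * per p ζ a = (p : ℂ) * (((p - 1) / 2 : ℕ) : ℂ)

/-! ## Level 1: group structure -/

/-- elements of order `p` are conjugate to powers of `x`. -/
def OrdP : Prop :=
  ∀ {G : Type u} [Group G] [Fintype G] (p : ℕ) [Fact p.Prime] (c : TCtx G p) (u : G),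
    orderOf u = p → ∃ h : G, ∃ a : ℕ, ¬ p ∣ a ∧ u = h * c.x ^ a * h⁻¹

/-- `p`-singular elements have order `p`. -/
def Sing : Prop :=
  ∀ {G : Type u} [Group G] [Fintype G] (p : ℕ) [Fact p.Prime] (c : TCtx G p) (g : G),
    p ∣ orderOf g → orderOf g = p

/-- sums of class functions over the elements of order `p`. -/
def CountP : Prop :=
  ∀ {G : Type u} [Group G] [Fintype G] (p : ℕ) [Fact p.Prime] (c : TCtx G p) (F : G → ℂ),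
    IsClassFunction G F →
    (∑ u : G, if orderOf u = p then F u else 0) = (c.n : ℂ) * ∑ a ∈ Finset.Ico 1 p, F (c.x ^ a)

/-- a Galois exponent exists. -/
def KEx : Prop :=
  ∀ {G : Type u} [Group G] [Fintype G] (p : ℕ) [Fact p.Prime] (c : TCtx G p), ∃ k : ℕ, c.GalK k

/-- an involution centralizing a Sylow `2`-subgroup. -/
def Cen : Prop :=
  ∀ {G : Type u} [Group G] [Fintype G] (p : ℕ) [Fact p.Prime] (c : TCtx G p),
    ∃ t : G, orderOf t = 2 ∧ 2 ^ c.b ∣ Nat.card (Subgroup.centralizer ({t} : Set G))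

/-- an involution inverting `x` gives at least `p` factorizations of `x`. -/
def Pairs : Prop :=
  ∀ {G : Type u} [Group G] [Fintype G] (p : ℕ) [Fact p.Prime] (c : TCtx G p) (z : G),
    orderOf z = 2 → z * c.x * z⁻¹ = c.x⁻¹ →
    p ≤ Nat.card {q : G × G // IsConj z q.1 ∧ IsConj z q.2 ∧ q.1 * q.2 = c.x}

/-! ## Level 2: characters on the powers of `x` -/

/-- the sum of a character over `⟨x⟩` is `p` times a natural number. -/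
def FNat : Prop :=
  ∀ {G : Type u} [Group G] [Fintype G] (p : ℕ) [Fact p.Prime] (c : TCtx G p) (χ : G → ℂ),
    IsCharacter G χ → ∃ f : ℕ, ∑ a ∈ Finset.range p, χ (c.x ^ a) = (p : ℂ) * (f : ℂ)

/-- column orthogonality: the other irreducible characters vanish on the elements of order `p`. -/
def ColX : Prop :=
  ∀ {G : Type u} [Group G] [Fintype G] (p : ℕ) [Fact p.Prime] (c : TCtx G p)
    (χ : IrrCharacter G), χ ∉ c.X → χ ≠ c.θ₁ → χ ≠ c.θ₂ → ∀ a : ℕ, ¬ p ∣ a →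
    (χ : G → ℂ) (c.x ^ a) = 0

/-- the trivial character lies in `X`, with sign `+1`. -/
def Triv : Prop :=
  ∀ {G : Type u} [Group G] [Fintype G] (p : ℕ) [Fact p.Prime] (c : TCtx G p)
    (χ₀ : IrrCharacter G), (χ₀ : G → ℂ) = (fun _ => 1) → χ₀ ∈ c.X ∧ c.εX χ₀ = 1

/-- the degrees of `θ₁`, `θ₂`. -/
def Deg : Prop :=
  ∀ {G : Type u} [Group G] [Fintype G] (p : ℕ) [Fact p.Prime] (c : TCtx G p),
    (c.θ₁ : G → ℂ) 1 = (c.e : ℂ) + 1 ∧ (c.θ₂ : G → ℂ) 1 = (c.e : ℂ) + 1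

/-- `θ₁`, `θ₂` are determined by their value at `x`; they are distinct and not in `X`. -/
def Uniq : Prop :=
  ∀ {G : Type u} [Group G] [Fintype G] (p : ℕ) [Fact p.Prime] (c : TCtx G p),
    c.θ₁ ≠ c.θ₂ ∧ c.θ₁ ∉ c.X ∧ c.θ₂ ∉ c.X ∧ ∀ χ : IrrCharacter G,
      ((χ : G → ℂ) c.x = (c.θ₁ : G → ℂ) c.x → χ = c.θ₁) ∧
      ((χ : G → ℂ) c.x = (c.θ₂ : G → ℂ) c.x → χ = c.θ₂)

/-- `θ₁`, `θ₂` are real-valued. -/
def Real : Prop :=
  ∀ {G : Type u} [Group G] [Fintype G] (p : ℕ) [Fact p.Prime] (c : TCtx G p) (g : G),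
    conj ((c.θ₁ : G → ℂ) g) = (c.θ₁ : G → ℂ) g ∧ conj ((c.θ₂ : G → ℂ) g) = (c.θ₂ : G → ℂ) g

/-- the Galois exponent swaps `θ₁`, `θ₂` and fixes the other irreducible characters. -/
def GalAct : Prop :=
  ∀ {G : Type u} [Group G] [Fintype G] (p : ℕ) [Fact p.Prime] (c : TCtx G p) (k : ℕ), c.GalK k →
    (∀ g : G, (c.θ₁ : G → ℂ) (g ^ k) = (c.θ₂ : G → ℂ) g) ∧
    (∀ g : G, (c.θ₂ : G → ℂ) (g ^ k) = (c.θ₁ : G → ℂ) g) ∧
    ∀ χ : IrrCharacter G, χ ≠ c.θ₁ → χ ≠ c.θ₂ → ∀ g : G, (χ : G → ℂ) (g ^ k) = (χ : G → ℂ) g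

/-- the nontrivial members of `X` have even degree. -/
def EvenDeg : Prop :=
  ∀ {G : Type u} [Group G] [Fintype G] (p : ℕ) [Fact p.Prime] (c : TCtx G p),
    ∀ χ ∈ c.X, (χ : G → ℂ) ≠ (fun _ => 1) → Even (charDegree (χ : G → ℂ))

/-- the sums over `⟨x⟩` of the irreducible characters. -/
def FVals : Prop :=
  ∀ {G : Type u} [Group G] [Fintype G] (p : ℕ) [Fact p.Prime] (c : TCtx G p),
    (∀ χ ∈ c.X, ∑ a ∈ Finset.range p, (χ : G → ℂ) (c.x ^ a) =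
      (χ : G → ℂ) 1 + ((p : ℂ) - 1) * (c.εX χ : ℂ)) ∧
    (∑ a ∈ Finset.range p, (c.θ₁ : G → ℂ) (c.x ^ a) = (p : ℂ)) ∧
    (∑ a ∈ Finset.range p, (c.θ₂ : G → ℂ) (c.x ^ a) = (p : ℂ)) ∧
    (∀ χ : IrrCharacter G, χ ∉ c.X → χ ≠ c.θ₁ → χ ≠ c.θ₂ →
      ∑ a ∈ Finset.range p, (χ : G → ℂ) (c.x ^ a) = (χ : G → ℂ) 1)

/-- the sum of `θ₁²` over `⟨x⟩`. -/
def PhiF : Prop :=
  ∀ {G : Type u} [Group G] [Fintype G] (p : ℕ) [Fact p.Prime] (c : TCtx G p),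
    ∑ a ∈ Finset.range p, (c.θ₁ : G → ℂ) (c.x ^ a) * (c.θ₁ : G → ℂ) (c.x ^ a) =
      (p : ℂ) * ((c.e : ℂ) + 1)

/-- the sum of `θ₁ θ₂` over `⟨x⟩`. -/
def PsiF : Prop :=
  ∀ {G : Type u} [Group G] [Fintype G] (p : ℕ) [Fact p.Prime] (c : TCtx G p),
    ∑ a ∈ Finset.range p, (c.θ₁ : G → ℂ) (c.x ^ a) * (c.θ₂ : G → ℂ) (c.x ^ a) = (p : ℂ)

/-! ## Level 3: products of characters -/

/-- a product of two characters is a natural combination of irreducible characters. -/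
def MulDec : Prop :=
  ∀ {G : Type u} [Group G] [Fintype G] [Fintype (IrrCharacter G)] (φ₁ φ₂ : G → ℂ),
    IsCharacter G φ₁ → IsCharacter G φ₂ → ∃ m : IrrCharacter G → ℕ,
      ∀ g : G, φ₁ g * φ₂ g = ∑ ψ : IrrCharacter G, (m ψ : ℂ) * (ψ : G → ℂ) g

/-- Parseval for integral combinations of irreducible characters. -/
def Pars : Prop :=
  ∀ {G : Type u} [Group G] [Fintype G] [Fintype (IrrCharacter G)] (m m' : IrrCharacter G → ℤ),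
    ∑ g : G, (∑ ψ : IrrCharacter G, (m ψ : ℂ) * (ψ : G → ℂ) g) *
        conj (∑ ψ : IrrCharacter G, (m' ψ : ℂ) * (ψ : G → ℂ) g) =
      (Nat.card G : ℂ) * ∑ ψ : IrrCharacter G, (m ψ : ℂ) * (m' ψ : ℂ)

/-- the shape of `θ₁²`. -/
def PhiShape : Prop :=
  ∀ {G : Type u} [Group G] [Fintype G] [Fintype (IrrCharacter G)] (p : ℕ) [Fact p.Prime]
    (c : TCtx G p) (m : IrrCharacter G → ℕ),
    (∀ g : G, (c.θ₁ : G → ℂ) g * (c.θ₁ : G → ℂ) g =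
      ∑ ψ : IrrCharacter G, (m ψ : ℂ) * (ψ : G → ℂ) g) →
    (∀ χ ∈ c.X, (χ : G → ℂ) ≠ (fun _ => 1) → m χ ≠ 0 →
      c.εX χ = 1 ∧ charDegree (χ : G → ℂ) = p + 1) ∧
    (∀ χ ∈ c.X, (χ : G → ℂ) = (fun _ => 1) → m χ = 1) ∧
    (∃ ψ₀ : IrrCharacter G, ψ₀ ∉ c.X ∧ ψ₀ ≠ c.θ₁ ∧ ψ₀ ≠ c.θ₂ ∧ m ψ₀ = 1 ∧
      ∀ ψ : IrrCharacter G, ψ ∉ c.X → ψ ≠ c.θ₁ → ψ ≠ c.θ₂ → ψ ≠ ψ₀ → m ψ = 0) ∧
    m c.θ₁ + m c.θ₂ +
      2 * (∑ χ ∈ c.X, if (χ : G → ℂ) = (fun _ => 1) then 0 else m χ) + 1 = c.e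

/-- the shape of `θ₁ θ₂`. -/
def PsiShape : Prop :=
  ∀ {G : Type u} [Group G] [Fintype G] [Fintype (IrrCharacter G)] (p : ℕ) [Fact p.Prime]
    (c : TCtx G p) (m : IrrCharacter G → ℕ),
    (∀ g : G, (c.θ₁ : G → ℂ) g * (c.θ₂ : G → ℂ) g =
      ∑ ψ : IrrCharacter G, (m ψ : ℂ) * (ψ : G → ℂ) g) →
    (∀ χ ∈ c.X, m χ ≠ 0 → c.εX χ = -1 ∧ charDegree (χ : G → ℂ) = p - 1) ∧
    m c.θ₁ = 0 ∧ m c.θ₂ = 0 ∧
    (∃ ψ₁ : IrrCharacter G, ψ₁ ∉ c.X ∧ ψ₁ ≠ c.θ₁ ∧ ψ₁ ≠ c.θ₂ ∧ m ψ₁ = 1 ∧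
      ∀ ψ : IrrCharacter G, ψ ∉ c.X → ψ ≠ c.θ₁ → ψ ≠ c.θ₂ → ψ ≠ ψ₁ → m ψ = 0) ∧
    2 * (∑ χ ∈ c.X, m χ) = c.e

/-- the fourth moment of `θ₁ - θ₂`. -/
def Norm4 : Prop :=
  ∀ {G : Type u} [Group G] [Fintype G] (p : ℕ) [Fact p.Prime] (c : TCtx G p),
    ∑ g : G, ((c.θ₁ : G → ℂ) g - (c.θ₂ : G → ℂ) g) ^ 4 = 2 * (p : ℂ) * (Nat.card G : ℂ)

/-- the norm identity for `(θ₁ - θ₂)² = θ₁² + θ₂² - 2 θ₁ θ₂`. -/
def MomId : Prop :=
  ∀ {G : Type u} [Group G] [Fintype G] [Fintype (IrrCharacter G)] (p : ℕ) [Fact p.Prime]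
    (c : TCtx G p) (k : ℕ), c.GalK k → ∀ (m m' : IrrCharacter G → ℕ),
    (∀ g : G, (c.θ₁ : G → ℂ) g * (c.θ₁ : G → ℂ) g =
      ∑ ψ : IrrCharacter G, (m ψ : ℂ) * (ψ : G → ℂ) g) →
    (∀ g : G, (c.θ₁ : G → ℂ) g * (c.θ₂ : G → ℂ) g =
      ∑ ψ : IrrCharacter G, (m' ψ : ℂ) * (ψ : G → ℂ) g) →
    ∑ ψ : IrrCharacter G, ((m ψ : ℤ) + (m (c.sw ψ) : ℤ) - 2 * (m' ψ : ℤ)) ^ 2 = 2 * (p : ℤ)

/-- the shape of `X`. -/
def XShape : Prop :=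
  ∀ {G : Type u} [Group G] [Fintype G] (p : ℕ) [Fact p.Prime] (c : TCtx G p),
    (∀ χ ∈ c.X, (χ : G → ℂ) = (fun _ => 1) ∨
      (c.εX χ = 1 ∧ charDegree (χ : G → ℂ) = p + 1) ∨
      (c.εX χ = -1 ∧ charDegree (χ : G → ℂ) = p - 1)) ∧
    2 * (c.X.filter (fun χ : IrrCharacter G => (χ : G → ℂ) ≠ (fun _ => 1) ∧ c.εX χ = 1)).card + 2 = c.e

/-! ## Level 4: involutions -/

/-- the value of a character at an involution inverting `x`. -/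
def InvBound : Prop :=
  ∀ {G : Type u} [Group G] [Fintype G] (p : ℕ) [Fact p.Prime] (c : TCtx G p) (χ : G → ℂ),
    IsCharacter G χ → ∀ z : G, orderOf z = 2 → z * c.x * z⁻¹ = c.x⁻¹ → ∀ f : ℕ,
    ∑ a ∈ Finset.range p, χ (c.x ^ a) = (p : ℂ) * (f : ℂ) →
    ∃ r : ℤ, χ z = (r : ℂ) ∧ |r| ≤ (f : ℤ)

/-- class multiplication for `t, t → y`. -/
def CM : Prop :=
  ∀ {G : Type u} [Group G] [Fintype G] [Fintype (IrrCharacter G)] (t y : G),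
    (Nat.card {q : G × G // IsConj t q.1 ∧ IsConj t q.2 ∧ q.1 * q.2 = y} : ℂ) *
        (Nat.card (Subgroup.centralizer ({t} : Set G)) : ℂ) ^ 2 =
      (Nat.card G : ℂ) * ∑ ψ : IrrCharacter G,
        (ψ : G → ℂ) t * (ψ : G → ℂ) t * conj ((ψ : G → ℂ) y) / (ψ : G → ℂ) 1

/-- the character sum at a `2`-central involution is at least `1`. -/
def SumPos : Prop :=
  ∀ {G : Type u} [Group G] [Fintype G] [Fintype (IrrCharacter G)] (p : ℕ) [Fact p.Prime]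
    (c : TCtx G p) (t : G), orderOf t = 2 →
    2 ^ c.b ∣ Nat.card (Subgroup.centralizer ({t} : Set G)) →
    ∃ r : ℝ, 1 ≤ r ∧ ∑ ψ : IrrCharacter G,
      (ψ : G → ℂ) t * (ψ : G → ℂ) t * conj ((ψ : G → ℂ) c.x) / (ψ : G → ℂ) 1 = (r : ℂ)

/-- the character sum at an involution inverting `x` is at most `2 e / (e + 1)`. -/
def SumUp : Prop :=
  ∀ {G : Type u} [Group G] [Fintype G] [Fintype (IrrCharacter G)] (p : ℕ) [Fact p.Prime]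
    (c : TCtx G p) (z : G), orderOf z = 2 → z * c.x * z⁻¹ = c.x⁻¹ →
    ∃ r : ℝ, r * ((c.e : ℝ) + 1) ≤ 2 * (c.e : ℝ) ∧ ∑ ψ : IrrCharacter G,
      (ψ : G → ℂ) z * (ψ : G → ℂ) z * conj ((ψ : G → ℂ) c.x) / (ψ : G → ℂ) 1 = (r : ℂ)

/-- a `2`-central involution inverting `x`. -/
def InvEx : Prop :=
  ∀ {G : Type u} [Group G] [Fintype G] (p : ℕ) [Fact p.Prime] (c : TCtx G p),
    ∃ z : G, orderOf z = 2 ∧ z * c.x * z⁻¹ = c.x⁻¹ ∧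
      2 ^ c.b ∣ Nat.card (Subgroup.centralizer ({z} : Set G))

/-- the centralizer of an involution inverting `x` is small. -/
def CzBound : Prop :=
  ∀ {G : Type u} [Group G] [Fintype G] (p : ℕ) [Fact p.Prime] (c : TCtx G p) (z : G),
    orderOf z = 2 → z * c.x * z⁻¹ = c.x⁻¹ →
    Nat.card (Subgroup.centralizer ({z} : Set G)) ^ 2 ≤ 2 ^ c.b * (2 * c.e)

/-- the goal of part T. -/
def Goal : Prop :=
  ∀ {G : Type u} [Group G] [Fintype G] (p : ℕ) [Fact p.Prime], TCtx G p → Nat.card G < p ^ 3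

end Cfsg.Agent.Lib.Lead.Tuan
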