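import Mathlib

/-!
# Sylow 2-subgroups of symmetric groups are self-normalizing (odd-order part)

`Max2 P`: `P` is a maximal 2-subgroup.  For a maximal 2-subgroup `P` of `Perm Ω` the set
`swapsIn P` of transpositions in `P` is a matching of `Ω` missing at most one point
(`covered_of_max2`), the normalizer of this set acts on it by conjugation (`conjHom`), the image
of `P` is again a maximal 2-subgroup (`max2_image`) and the kernel has exponent two
(`sq_eq_one_of_conjHom_eq_one`).  Induction gives `eq_one_of_normalizes`: an element of odd order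
normalizing `P` is trivial.
-/

set_option linter.unusedSectionVars false
set_option linter.style.haveILetI false

namespace Cfsg.Agent.Lib.Lead.SylTwoSym

open Equiv

/-- `P` is a maximal 2-subgroup. -/
def Max2 {G : Type*} [Group G] (P : Subgroup G) : Prop :=
  IsPGroup 2 P ∧ ∀ Q : Subgroup G, IsPGroup 2 Q → P ≤ Q → Q = P

theorem max2_of_sylow {G : Type*} [Group G] (P : Sylow 2 G) : Max2 (P : Subgroup G) :=
  ⟨P.isPGroup', fun _ hQ hPQ => P.is_maximal' hQ hPQ⟩

/-- one-sided invariance under conjugation by an element of a finite group is two-sided -/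
theorem conj_mem_iff_of_forall {G : Type*} [Group G] [Finite G] (S : Set G) (g : G)
    (h : ∀ x ∈ S, g * x * g⁻¹ ∈ S) : ∀ x, x ∈ S ↔ g * x * g⁻¹ ∈ S := by
  have hpow : ∀ k : ℕ, ∀ x ∈ S, g ^ k * x * (g ^ k)⁻¹ ∈ S := by
    intro k
    induction k with
    | zero => intro x hx; simpa using hx
    | succ k ih =>
      intro x hx
      have := h _ (ih x hx)
      have e : g * (g ^ k * x * (g ^ k)⁻¹) * g⁻¹ = g ^ (k + 1) * x * (g ^ (k + 1))⁻¹ := by
        rw [pow_succ']; group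
      rwa [e] at this
  intro x
  refine ⟨h x, fun hx => ?_⟩
  have hpos : 0 < orderOf g := orderOf_pos g
  have hinv : g ^ (orderOf g - 1) = g⁻¹ := by
    apply eq_inv_of_mul_eq_one_left
    rw [← pow_succ, Nat.sub_add_cancel hpos, pow_orderOf_eq_one]
  have := hpow (orderOf g - 1) _ hx
  rw [hinv] at this
  simpa [mul_assoc] using this

/-- commuting involutions generate a 2-group -/
theorem isPGroup_closure_of_comm_invol {G : Type*} [Group G] (C : Set G)
    (hsq : ∀ x ∈ C, x * x = 1) (hc : ∀ x ∈ C, ∀ y ∈ C, x * y = y * x) :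
    IsPGroup 2 (Subgroup.closure C) := by
  have h1 : Subgroup.closure C ≤ Subgroup.centralizer C := by
    rw [Subgroup.closure_le]
    intro x hx
    rw [SetLike.mem_coe, Subgroup.mem_centralizer_iff]
    intro y hy
    exact hc y hy x hx
  have h2 : Subgroup.closure C ≤ Subgroup.centralizer (Subgroup.closure C : Set G) := by
    rw [Subgroup.closure_le]
    intro x hx
    rw [SetLike.mem_coe, Subgroup.mem_centralizer_iff]
    intro y hy
    exact (Subgroup.mem_centralizer_iff.mp (h1 hy) x hx).symm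
  have h3 : ∀ y ∈ Subgroup.closure C, y * y = 1 := by
    intro y hy
    induction hy using Subgroup.closure_induction with
    | mem x hx => exact hsq x hx
    | one => simp
    | mul x y hx hy ihx ihy =>
      have hxy : y * x = x * y := Subgroup.mem_centralizer_iff.mp (h2 hx) y hy
      calc x * y * (x * y) = x * (y * x) * y := by group
        _ = x * (x * y) * y := by rw [hxy]
        _ = (x * x) * (y * y) := by group
        _ = 1 := by rw [ihx, ihy, mul_one]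
    | inv x hx ihx =>
      calc x⁻¹ * x⁻¹ = (x * x)⁻¹ := by group
        _ = 1 := by rw [ihx, inv_one]
  rintro ⟨y, hy⟩
  refine ⟨1, ?_⟩
  apply Subtype.ext
  simp [pow_two, h3 y hy]

section conjHom

variable {G : Type*} [Group G]

/-- conjugation action of the normalizer of a set on the set -/
@[reducible] def conjAct (T : Set G) : MulAction ↥(Subgroup.normalizer T) ↥T where
  smul σ τ := ⟨(σ : G) * τ * (σ : G)⁻¹, (Subgroup.mem_set_normalizer_iff.mp σ.2 τ).mp τ.2⟩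
  one_smul τ := by
    apply Subtype.ext
    show ((1 : ↥(Subgroup.normalizer T)) : G) * τ * ((1 : ↥(Subgroup.normalizer T)) : G)⁻¹ = τ
    simp
  mul_smul σ₁ σ₂ τ := by
    apply Subtype.ext
    show ((σ₁ * σ₂ : ↥(Subgroup.normalizer T)) : G) * τ * ((σ₁ * σ₂ : ↥(Subgroup.normalizer T)) : G)⁻¹
      = (σ₁ : G) * ((σ₂ : G) * τ * (σ₂ : G)⁻¹) * (σ₁ : G)⁻¹
    simp [mul_assoc]

/-- the permutation representation of the normalizer of a set on the set -/
def conjHom (T : Set G) : ↥(Subgroup.normalizer T) →* Equiv.Perm ↥T :=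
  @MulAction.toPermHom _ _ _ (conjAct T)

theorem conjHom_apply (T : Set G) (σ : ↥(Subgroup.normalizer T)) (τ : ↥T) :
    ((conjHom T σ τ : ↥T) : G) = (σ : G) * τ * (σ : G)⁻¹ := rfl

end conjHom

section swaps

variable {Ω : Type*} [DecidableEq Ω] [Fintype Ω]

/-- the set of transpositions lying in `P` -/
def swapsIn (P : Subgroup (Perm Ω)) : Set (Perm Ω) := {τ | τ ∈ P ∧ τ.IsSwap}

theorem isSwap_conj {τ : Perm Ω} (h : τ.IsSwap) (σ : Perm Ω) : (σ * τ * σ⁻¹).IsSwap := by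
  obtain ⟨x, y, hxy, rfl⟩ := h
  refine ⟨σ x, σ y, fun h => hxy (σ.injective h), ?_⟩
  rw [Equiv.swap_apply_apply]

theorem swap_of_moves {τ : Perm Ω} (h : τ.IsSwap) {x : Ω} (hx : τ x ≠ x) : τ = swap x (τ x) := by
  obtain ⟨a, b, hab, rfl⟩ := h
  rcases (Equiv.swap_apply_ne_self_iff.mp hx).2 with rfl | rfl
  · rw [Equiv.swap_apply_left]
  · rw [Equiv.swap_apply_right, Equiv.swap_comm]

theorem isSwap_apply_apply {τ : Perm Ω} (h : τ.IsSwap) (x : Ω) : τ (τ x) = x := by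
  obtain ⟨a, b, hab, rfl⟩ := h
  simp

/-- two transpositions of a 2-group moving a common point are equal -/
theorem eq_of_moves {P : Subgroup (Perm Ω)} (hP : IsPGroup 2 P) {τ₁ τ₂ : Perm Ω}
    (h₁ : τ₁ ∈ swapsIn P) (h₂ : τ₂ ∈ swapsIn P) {x : Ω} (hx₁ : τ₁ x ≠ x) (hx₂ : τ₂ x ≠ x) :
    τ₁ = τ₂ := by
  by_contra hne
  have e₁ := swap_of_moves h₁.2 hx₁
  have e₂ := swap_of_moves h₂.2 hx₂
  have hyz : τ₁ x ≠ τ₂ x := by
    intro h; apply hne; rw [e₁, e₂, h]
  have h3 : (swap x (τ₁ x) * swap x (τ₂ x)).IsThreeCycle :=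
    Equiv.Perm.isThreeCycle_swap_mul_swap_same (Ne.symm hx₁) (Ne.symm hx₂) hyz
  have hmem : swap x (τ₁ x) * swap x (τ₂ x) ∈ P := by
    rw [← e₁, ← e₂]; exact P.mul_mem h₁.1 h₂.1
  obtain ⟨k, hk⟩ := hP ⟨_, hmem⟩
  have hk' : (swap x (τ₁ x) * swap x (τ₂ x)) ^ (2 ^ k) = 1 := by
    have := congrArg Subtype.val hk
    simpa using this
  have hdvd : 3 ∣ 2 ^ k := by
    rw [← h3.orderOf]; exact orderOf_dvd_of_pow_eq_one hk'
  have := Nat.Prime.dvd_of_dvd_pow Nat.prime_three hdvd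
  omega

theorem disjoint_of_ne {P : Subgroup (Perm Ω)} (hP : IsPGroup 2 P) {τ₁ τ₂ : Perm Ω}
    (h₁ : τ₁ ∈ swapsIn P) (h₂ : τ₂ ∈ swapsIn P) (hne : τ₁ ≠ τ₂) : Perm.Disjoint τ₁ τ₂ := by
  intro x
  by_contra hx
  obtain ⟨hx1, hx2⟩ := not_or.mp hx
  exact hne (eq_of_moves hP h₁ h₂ hx1 hx2)

theorem commute_of_swapsIn {P : Subgroup (Perm Ω)} (hP : IsPGroup 2 P) {τ₁ τ₂ : Perm Ω}
    (h₁ : τ₁ ∈ swapsIn P) (h₂ : τ₂ ∈ swapsIn P) : τ₁ * τ₂ = τ₂ * τ₁ := by
  by_cases h : τ₁ = τ₂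
  · rw [h]
  · exact (disjoint_of_ne hP h₁ h₂ h).commute.eq

theorem le_normalizer_swapsIn (P : Subgroup (Perm Ω)) : P ≤ Subgroup.normalizer (swapsIn P) := by
  intro p hp
  rw [Subgroup.mem_set_normalizer_iff]
  intro n
  constructor
  · rintro ⟨h1, h2⟩
    exact ⟨P.mul_mem (P.mul_mem hp h1) (P.inv_mem hp), isSwap_conj h2 p⟩
  · rintro ⟨h1, h2⟩
    have e : n = p⁻¹ * (p * n * p⁻¹) * p⁻¹⁻¹ := by group
    refine ⟨?_, ?_⟩
    · rw [e]; exact P.mul_mem (P.mul_mem (P.inv_mem hp) h1) (P.inv_mem (P.inv_mem hp))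
    · rw [e]; exact isSwap_conj h2 p⁻¹

/-- a 2-group acting on an invariant set with at least two points has an invariant matching pair -/
theorem exists_block_pair {P : Subgroup (Perm Ω)} (hP : IsPGroup 2 P) (U : Set Ω)
    (hU : ∀ p ∈ P, ∀ u ∈ U, p u ∈ U) {a₀ b₀ : Ω} (ha₀ : a₀ ∈ U) (hb₀ : b₀ ∈ U) (hab : a₀ ≠ b₀) :
    ∃ a b : Ω, a ∈ U ∧ b ∈ U ∧ a ≠ b ∧ ∀ p ∈ P,
      (p a = a ∧ p b = b) ∨ (p a = b ∧ p b = a) ∨ (p a ≠ a ∧ p a ≠ b ∧ p b ≠ a ∧ p b ≠ b) := by
  by_cases hfix : ∀ u ∈ U, ∀ p ∈ P, p u = u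
  · exact ⟨a₀, b₀, ha₀, hb₀, hab, fun p hp => Or.inl ⟨hfix _ ha₀ p hp, hfix _ hb₀ p hp⟩⟩
  simp only [not_forall] at hfix
  obtain ⟨a, haU, p₀, hp₀, hp₀a⟩ := hfix
  haveI : Fact (Nat.Prime 2) := ⟨Nat.prime_two⟩
  let Sa : Subgroup (Perm Ω) := P ⊓ MulAction.stabilizer (Perm Ω) a
  have hSa : ∀ q : Perm Ω, q ∈ Sa ↔ q ∈ P ∧ q a = a := by
    intro q
    simp only [Sa, Subgroup.mem_inf, MulAction.mem_stabilizer_iff, Perm.smul_def]
  obtain ⟨j, hj⟩ := hP.exists_card_eq
  have hH : IsPGroup 2 (Sa.subgroupOf P) := hP.to_subgroup _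
  obtain ⟨k, hk⟩ := hH.exists_card_eq
  have hHne : Sa.subgroupOf P ≠ ⊤ := by
    intro h
    have : (⟨p₀, hp₀⟩ : ↥P) ∈ Sa.subgroupOf P := by rw [h]; trivial
    rw [Subgroup.mem_subgroupOf] at this
    exact hp₀a ((hSa _).mp this).2
  have hkj : k < j := by
    have h1 : 2 ^ k ∣ 2 ^ j := by
      rw [← hk, ← hj]; exact Subgroup.card_subgroup_dvd_card _
    have h2 : k ≤ j := (Nat.pow_dvd_pow_iff_le_right (by norm_num)).mp h1
    rcases Nat.lt_or_ge k j with h | h
    · exact h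
    · exfalso
      have hkj : k = j := le_antisymm h2 h
      apply hHne
      apply Subgroup.eq_top_of_card_eq
      rw [hk, hj, hkj]
  have hdvd : 2 ^ (k + 1) ∣ Nat.card ↥P := by
    rw [hj]; exact pow_dvd_pow 2 hkj
  obtain ⟨K, hKcard, hHK⟩ := Sylow.exists_subgroup_card_pow_succ hdvd hk
  have hex : ∃ m : ↥P, m ∈ K ∧ m ∉ Sa.subgroupOf P := by
    by_contra hcon
    have hle : K ≤ Sa.subgroupOf P := by
      intro m hm
      by_contra hm'
      exact hcon ⟨m, hm, hm'⟩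
    have heq := le_antisymm hle hHK
    rw [heq, hk] at hKcard
    have := Nat.pow_right_injective (le_refl 2) hKcard
    omega
  obtain ⟨m, hmK, hmH⟩ := hex
  have hidx : ((Sa.subgroupOf P).subgroupOf K).index = 2 := by
    have h1 := Subgroup.card_mul_index ((Sa.subgroupOf P).subgroupOf K)
    rw [Nat.card_congr (Subgroup.subgroupOfEquivOfLe hHK).toEquiv, hk, hKcard, pow_succ] at h1
    exact Nat.eq_of_mul_eq_mul_left (by positivity) h1
  have hma : (m : Perm Ω) a ≠ a := by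
    intro h
    apply hmH
    rw [Subgroup.mem_subgroupOf]
    exact (hSa _).mpr ⟨m.2, h⟩
  -- membership in the stabilizer, as elements of `P`
  have hmemH : ∀ q : ↥P, q ∈ Sa.subgroupOf P ↔ (q : Perm Ω) a = a := by
    intro q
    rw [Subgroup.mem_subgroupOf, hSa]
    exact ⟨fun h => h.2, fun h => ⟨q.2, h⟩⟩
  have claim1 : ∀ m' : ↥P, m' ∈ K → (m' : Perm Ω) a = a ∨ (m' : Perm Ω) a = (m : Perm Ω) a := by
    intro m' hm'K
    by_cases hm' : m' ∈ Sa.subgroupOf P
    · left; exact (hmemH m').mp hm'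
    · right
      have h1 := (Subgroup.mul_mem_iff_of_index_two hidx (a := ⟨m⁻¹, K.inv_mem hmK⟩)
        (b := ⟨m', hm'K⟩)).mpr (by
          constructor
          · intro h
            exfalso
            rw [Subgroup.mem_subgroupOf] at h
            exact hmH ((Subgroup.inv_mem_iff _).mp h)
          · intro h
            exfalso
            rw [Subgroup.mem_subgroupOf] at h
            exact hm' h)
      rw [Subgroup.mem_subgroupOf] at h1
      have h2 := (hmemH _).mp h1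
      have h3 : ((m : Perm Ω)⁻¹ * (m' : Perm Ω)) a = a := h2
      rw [Perm.mul_apply, Perm.inv_eq_iff_eq] at h3
      exact h3
  have claim2 : ∀ (p : Perm Ω) (hp : p ∈ P),
      (p a = a ∨ p a = (m : Perm Ω) a ∨ p ((m : Perm Ω) a) = a ∨ p ((m : Perm Ω) a) = (m : Perm Ω) a) →
      (⟨p, hp⟩ : ↥P) ∈ K := by
    intro p hp h
    rcases h with h | h | h | h
    · exact hHK ((hmemH ⟨p, hp⟩).mpr h)
    · have h1 : m⁻¹ * ⟨p, hp⟩ ∈ Sa.subgroupOf P := by
        rw [hmemH]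
        show ((m : Perm Ω)⁻¹ * p) a = a
        rw [Perm.mul_apply, Perm.inv_eq_iff_eq]
        exact h
      have h2 := K.mul_mem hmK (hHK h1)
      simpa using h2
    · have h1 : ⟨p, hp⟩ * m ∈ Sa.subgroupOf P := by
        rw [hmemH]
        exact h
      have h2 := K.mul_mem (hHK h1) (K.inv_mem hmK)
      simpa using h2
    · have h1 : m⁻¹ * ⟨p, hp⟩ * m ∈ Sa.subgroupOf P := by
        rw [hmemH]
        show ((m : Perm Ω)⁻¹ * p * (m : Perm Ω)) a = a
        rw [Perm.mul_apply, Perm.mul_apply, Perm.inv_eq_iff_eq]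
        exact h
      have h2 := K.mul_mem (K.mul_mem hmK (hHK h1)) (K.inv_mem hmK)
      simpa [mul_assoc] using h2
  refine ⟨a, (m : Perm Ω) a, haU, hU _ m.2 a haU, fun h => hma h.symm, ?_⟩
  intro p hp
  by_cases hpK : (⟨p, hp⟩ : ↥P) ∈ K
  · have h1 := claim1 ⟨p, hp⟩ hpK
    have h2 := claim1 (⟨p, hp⟩ * m) (K.mul_mem hpK hmK)
    have h2' : p ((m : Perm Ω) a) = a ∨ p ((m : Perm Ω) a) = (m : Perm Ω) a := h2
    have hinj : p a ≠ p ((m : Perm Ω) a) := fun h => hma (p.injective h).symm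
    rcases h1 with h1 | h1 <;> rcases h2' with h2 | h2
    · exact absurd (h1.trans h2.symm) hinj
    · exact Or.inl ⟨h1, h2⟩
    · exact Or.inr (Or.inl ⟨h1, h2⟩)
    · exact absurd (h1.trans h2.symm) hinj
  · refine Or.inr (Or.inr ⟨?_, ?_, ?_, ?_⟩)
    · exact fun h => hpK (claim2 p hp (Or.inl h))
    · exact fun h => hpK (claim2 p hp (Or.inr (Or.inl h)))
    · exact fun h => hpK (claim2 p hp (Or.inr (Or.inr (Or.inl h))))
    · exact fun h => hpK (claim2 p hp (Or.inr (Or.inr (Or.inr h))))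

/-- the transpositions of a maximal 2-subgroup cover all points but at most one -/
theorem covered_of_max2 {P : Subgroup (Perm Ω)} (hP : Max2 P) {a₀ b₀ : Ω} (hab : a₀ ≠ b₀)
    (ha : ∀ τ ∈ swapsIn P, τ a₀ = a₀) (hb : ∀ τ ∈ swapsIn P, τ b₀ = b₀) : False := by
  let U : Set Ω := {x | ∀ τ ∈ swapsIn P, τ x = x}
  have hU : ∀ p ∈ P, ∀ u ∈ U, p u ∈ U := by
    intro p hp u hu τ hτ
    have h1 : p⁻¹ * τ * p ∈ swapsIn P := by
      refine ⟨P.mul_mem (P.mul_mem (P.inv_mem hp) hτ.1) hp, ?_⟩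
      have := isSwap_conj hτ.2 p⁻¹
      simpa using this
    have h2 := hu _ h1
    have h3 : p ((p⁻¹ * τ * p) u) = p u := by rw [h2]
    simpa [Perm.mul_apply] using h3
  obtain ⟨a, b, haU, hbU, hne, hblk⟩ :=
    exists_block_pair hP.1 U hU (show a₀ ∈ U from ha) (show b₀ ∈ U from hb) hab
  let t : Perm Ω := swap a b
  let C : Set (Perm Ω) := {x | ∃ p ∈ P, x = p * t * p⁻¹}
  have key : ∀ r ∈ P, (r * t * r⁻¹) * t = t * (r * t * r⁻¹) := by
    intro r hr
    have e : r * t * r⁻¹ = swap (r a) (r b) := (Equiv.swap_apply_apply r a b).symm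
    rw [e]
    rcases hblk r hr with ⟨h1, h2⟩ | ⟨h1, h2⟩ | ⟨h1, h2, h3, h4⟩
    · rw [h1, h2]
    · rw [h1, h2, Equiv.swap_comm]
    · have hd : Perm.Disjoint (swap (r a) (r b)) (swap a b) := by
        intro x
        by_cases hxa : x = a
        · left; rw [hxa]; exact Equiv.swap_apply_of_ne_of_ne (Ne.symm h1) (Ne.symm h3)
        · by_cases hxb : x = b
          · left; rw [hxb]; exact Equiv.swap_apply_of_ne_of_ne (Ne.symm h2) (Ne.symm h4)
          · right; exact Equiv.swap_apply_of_ne_of_ne hxa hxb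
      exact hd.commute.eq
  have hCsq : ∀ x ∈ C, x * x = 1 := by
    rintro x ⟨p, hp, rfl⟩
    calc p * t * p⁻¹ * (p * t * p⁻¹) = p * (t * t) * p⁻¹ := by group
      _ = 1 := by rw [Equiv.swap_mul_self]; group
  have hCc : ∀ x ∈ C, ∀ y ∈ C, x * y = y * x := by
    rintro x ⟨p, hp, rfl⟩ y ⟨q, hq, rfl⟩
    have h := key (q⁻¹ * p) (P.mul_mem (P.inv_mem hq) hp)
    calc p * t * p⁻¹ * (q * t * q⁻¹)
        = q * ((q⁻¹ * p) * t * (q⁻¹ * p)⁻¹ * t) * q⁻¹ := by group
      _ = q * (t * ((q⁻¹ * p) * t * (q⁻¹ * p)⁻¹)) * q⁻¹ := by rw [h]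
      _ = q * t * q⁻¹ * (p * t * p⁻¹) := by group
  have hN : IsPGroup 2 (Subgroup.closure C) := isPGroup_closure_of_comm_invol C hCsq hCc
  have fwd : ∀ q ∈ P, ∀ n ∈ Subgroup.closure C, q * n * q⁻¹ ∈ Subgroup.closure C := by
    intro q hq n hn
    induction hn using Subgroup.closure_induction with
    | mem x hx =>
      obtain ⟨p, hp, rfl⟩ := hx
      apply Subgroup.subset_closure
      exact ⟨q * p, P.mul_mem hq hp, by group⟩
    | one => simp
    | mul x y _ _ ihx ihy =>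
      have e : q * (x * y) * q⁻¹ = (q * x * q⁻¹) * (q * y * q⁻¹) := by group
      rw [e]; exact Subgroup.mul_mem _ ihx ihy
    | inv x _ ih =>
      have e : q * x⁻¹ * q⁻¹ = (q * x * q⁻¹)⁻¹ := by group
      rw [e]; exact Subgroup.inv_mem _ ih
  have hnorm : P ≤ Subgroup.normalizer ((Subgroup.closure C : Subgroup (Perm Ω)) : Set (Perm Ω)) := by
    intro q hq
    rw [Subgroup.mem_normalizer_iff]
    intro n
    refine ⟨fwd q hq n, fun h => ?_⟩
    have := fwd q⁻¹ (P.inv_mem hq) _ h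
    simpa [mul_assoc] using this
  have hsup : IsPGroup 2 (P ⊔ Subgroup.closure C : Subgroup (Perm Ω)) :=
    hP.1.to_sup_of_normal_right' hN hnorm
  have heq : P ⊔ Subgroup.closure C = P := hP.2 _ hsup le_sup_left
  have ht : t ∈ P := by
    rw [← heq]
    exact (le_sup_right : Subgroup.closure C ≤ P ⊔ Subgroup.closure C)
      (Subgroup.subset_closure ⟨1, P.one_mem, by simp⟩)
  have htT : t ∈ swapsIn P := ⟨ht, a, b, hne, rfl⟩
  have h1 := haU t htT
  rw [show t a = b from Equiv.swap_apply_left a b] at h1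
  exact hne h1.symm

/-- the kernel of the action on the transpositions has exponent two -/
theorem sq_eq_one_of_conjHom_eq_one {P : Subgroup (Perm Ω)} (hP : Max2 P)
    (σ : ↥(Subgroup.normalizer (swapsIn P))) (h : conjHom (swapsIn P) σ = 1) :
    (σ : Perm Ω) * σ = 1 := by
  have hfix : ∀ τ ∈ swapsIn P, (σ : Perm Ω) * τ * (σ : Perm Ω)⁻¹ = τ := by
    intro τ hτ
    have := congrArg (fun f => ((f ⟨τ, hτ⟩ : ↥(swapsIn P)) : Perm Ω)) h
    simpa [conjHom_apply] using this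
  ext x
  simp only [Perm.mul_apply, Perm.one_apply]
  by_cases hx : ∃ τ ∈ swapsIn P, τ x ≠ x
  · obtain ⟨τ, hτ, hτx⟩ := hx
    have e := swap_of_moves hτ.2 hτx
    have hc := hfix τ hτ
    have e2 : (σ : Perm Ω) * τ * (σ : Perm Ω)⁻¹ = swap ((σ : Perm Ω) x) ((σ : Perm Ω) (τ x)) := by
      conv_lhs => rw [e]
      exact (Equiv.swap_apply_apply _ _ _).symm
    rw [hc] at e2
    have h1 : τ ((σ : Perm Ω) x) = (σ : Perm Ω) (τ x) := by
      have := congrArg (fun f : Perm Ω => f ((σ : Perm Ω) x)) e2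
      simpa using this
    have h2 : τ ((σ : Perm Ω) x) ≠ (σ : Perm Ω) x := by
      rw [h1]
      exact fun h => hτx ((σ : Perm Ω).injective h)
    have h3 : swap x (τ x) ((σ : Perm Ω) x) ≠ (σ : Perm Ω) x := by
      rw [← e]; exact h2
    rcases (Equiv.swap_apply_ne_self_iff.mp h3).2 with h4 | h4
    · rw [h4, h4]
    · rw [h4, ← h1, h4]
      exact isSwap_apply_apply hτ.2 x
  · have hx0 : ∀ τ ∈ swapsIn P, τ x = x := by
      intro τ hτ
      by_contra h'
      exact hx ⟨τ, hτ, h'⟩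
    have hx' : ∀ τ ∈ swapsIn P, τ ((σ : Perm Ω) x) = (σ : Perm Ω) x := by
      intro τ hτ
      have hmem : (σ : Perm Ω)⁻¹ * τ * (σ : Perm Ω) ∈ swapsIn P :=
        (Subgroup.mem_set_normalizer_iff''.mp σ.2 τ).mp hτ
      have h1 := hx0 _ hmem
      have h2 := congrArg (σ : Perm Ω) h1
      simpa [Perm.mul_apply] using h2
    by_contra hne
    have h1 : (σ : Perm Ω) x ≠ x := by
      intro h; apply hne; rw [h, h]
    exact covered_of_max2 hP h1 hx' hx0

/-- two distinct transpositions of a 2-group are swapped by an involution fixing the others -/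
theorem lift_swap {P : Subgroup (Perm Ω)} (hP : IsPGroup 2 P) {τ₁ τ₂ : Perm Ω}
    (h₁ : τ₁ ∈ swapsIn P) (h₂ : τ₂ ∈ swapsIn P) (hne : τ₁ ≠ τ₂) :
    ∃ x : Perm Ω, x * x = 1 ∧ x * τ₁ * x⁻¹ = τ₂ ∧ x * τ₂ * x⁻¹ = τ₁ ∧
      ∀ τ ∈ swapsIn P, τ ≠ τ₁ → τ ≠ τ₂ → x * τ * x⁻¹ = τ := by
  obtain ⟨a, a', haa', e₁⟩ := h₁.2
  obtain ⟨b, b', hbb', e₂⟩ := h₂.2
  have m1a : τ₁ a ≠ a := by rw [e₁, Equiv.swap_apply_left]; exact Ne.symm haa'
  have m1a' : τ₁ a' ≠ a' := by rw [e₁, Equiv.swap_apply_right]; exact haa'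
  have m2b : τ₂ b ≠ b := by rw [e₂, Equiv.swap_apply_left]; exact Ne.symm hbb'
  have m2b' : τ₂ b' ≠ b' := by rw [e₂, Equiv.swap_apply_right]; exact hbb'
  have hab : a ≠ b := fun h => hne (eq_of_moves hP h₁ h₂ m1a (h ▸ m2b))
  have hab' : a ≠ b' := fun h => hne (eq_of_moves hP h₁ h₂ m1a (h ▸ m2b'))
  have ha'b : a' ≠ b := fun h => hne (eq_of_moves hP h₁ h₂ m1a' (h ▸ m2b))
  have ha'b' : a' ≠ b' := fun h => hne (eq_of_moves hP h₁ h₂ m1a' (h ▸ m2b'))
  let x : Perm Ω := swap a b * swap a' b'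
  have xa : x a = b := by
    show swap a b (swap a' b' a) = b
    rw [Equiv.swap_apply_of_ne_of_ne haa' hab', Equiv.swap_apply_left]
  have xb : x b = a := by
    show swap a b (swap a' b' b) = a
    rw [Equiv.swap_apply_of_ne_of_ne (Ne.symm ha'b) hbb', Equiv.swap_apply_right]
  have xa' : x a' = b' := by
    show swap a b (swap a' b' a') = b'
    rw [Equiv.swap_apply_left, Equiv.swap_apply_of_ne_of_ne (Ne.symm hab') (Ne.symm hbb')]
  have xb' : x b' = a' := by
    show swap a b (swap a' b' b') = a'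
    rw [Equiv.swap_apply_right, Equiv.swap_apply_of_ne_of_ne (Ne.symm haa') ha'b]
  have xc : ∀ c, c ≠ a → c ≠ a' → c ≠ b → c ≠ b' → x c = c := by
    intro c h1 h2 h3 h4
    show swap a b (swap a' b' c) = c
    rw [Equiv.swap_apply_of_ne_of_ne h2 h4, Equiv.swap_apply_of_ne_of_ne h1 h3]
  have xx : x * x = 1 := by
    ext c
    simp only [Perm.mul_apply, Perm.one_apply]
    by_cases h1 : c = a
    · rw [h1, xa, xb]
    · by_cases h2 : c = a'
      · rw [h2, xa', xb']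
      · by_cases h3 : c = b
        · rw [h3, xb, xa]
        · by_cases h4 : c = b'
          · rw [h4, xb', xa']
          · rw [xc c h1 h2 h3 h4, xc c h1 h2 h3 h4]
  refine ⟨x, xx, ?_, ?_, ?_⟩
  · rw [e₁, ← Equiv.swap_apply_apply, xa, xa', e₂]
  · rw [e₂, ← Equiv.swap_apply_apply, xb, xb', e₁]
  · intro τ hτ hτ1 hτ2
    obtain ⟨c, d, hcd, e⟩ := hτ.2
    have mc : τ c ≠ c := by rw [e, Equiv.swap_apply_left]; exact Ne.symm hcd
    have md : τ d ≠ d := by rw [e, Equiv.swap_apply_right]; exact hcd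
    have c1 : c ≠ a := fun h => hτ1 (eq_of_moves hP hτ h₁ mc (h ▸ m1a))
    have c2 : c ≠ a' := fun h => hτ1 (eq_of_moves hP hτ h₁ mc (h ▸ m1a'))
    have c3 : c ≠ b := fun h => hτ2 (eq_of_moves hP hτ h₂ mc (h ▸ m2b))
    have c4 : c ≠ b' := fun h => hτ2 (eq_of_moves hP hτ h₂ mc (h ▸ m2b'))
    have d1 : d ≠ a := fun h => hτ1 (eq_of_moves hP hτ h₁ md (h ▸ m1a))
    have d2 : d ≠ a' := fun h => hτ1 (eq_of_moves hP hτ h₁ md (h ▸ m1a'))
    have d3 : d ≠ b := fun h => hτ2 (eq_of_moves hP hτ h₂ md (h ▸ m2b))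
    have d4 : d ≠ b' := fun h => hτ2 (eq_of_moves hP hτ h₂ md (h ▸ m2b'))
    rw [e, ← Equiv.swap_apply_apply, xc c c1 c2 c3 c4, xc d d1 d2 d3 d4]

theorem conjHom_surjective {P : Subgroup (Perm Ω)} (hP : IsPGroup 2 P) :
    Function.Surjective (conjHom (swapsIn P)) := by
  classical
  rw [← MonoidHom.range_eq_top, eq_top_iff, ← Equiv.Perm.closure_isSwap, Subgroup.closure_le]
  rintro π ⟨τ₁, τ₂, hne, rfl⟩
  have hne' : (τ₁ : Perm Ω) ≠ τ₂ := fun h => hne (Subtype.ext h)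
  obtain ⟨x, xx, x1, x2, x3⟩ := lift_swap hP τ₁.2 τ₂.2 hne'
  have xinv : x⁻¹ = x := inv_eq_of_mul_eq_one_left xx
  have fwd : ∀ n ∈ swapsIn P, x * n * x⁻¹ ∈ swapsIn P := by
    intro n hn
    by_cases h1 : n = τ₁
    · rw [h1, x1]; exact τ₂.2
    · by_cases h2 : n = τ₂
      · rw [h2, x2]; exact τ₁.2
      · rw [x3 n hn h1 h2]; exact hn
  have hxN : x ∈ Subgroup.normalizer (swapsIn P) := by
    rw [Subgroup.mem_set_normalizer_iff]
    intro n
    refine ⟨fwd n, fun h => ?_⟩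
    have h' := fwd _ h
    have e : x * (x * n * x⁻¹) * x⁻¹ = n := by
      rw [xinv]
      calc x * (x * n * x) * x = (x * x) * n * (x * x) := by group
        _ = n := by rw [xx]; group
    rwa [e] at h'
  refine ⟨⟨x, hxN⟩, ?_⟩
  apply Equiv.ext
  intro τ
  apply Subtype.ext
  rw [conjHom_apply]
  show x * (τ : Perm Ω) * x⁻¹ = _
  by_cases h1 : τ = τ₁
  · rw [h1, Equiv.swap_apply_left, x1]
  · by_cases h2 : τ = τ₂
    · rw [h2, Equiv.swap_apply_right, x2]
    · rw [Equiv.swap_apply_of_ne_of_ne h1 h2]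
      exact x3 τ τ.2 (fun h => h1 (Subtype.ext h)) (fun h => h2 (Subtype.ext h))

/-- the image of a maximal 2-subgroup on its transpositions is a maximal 2-subgroup -/
theorem max2_image {P : Subgroup (Perm Ω)} (hP : Max2 P) :
    Max2 ((P.subgroupOf (Subgroup.normalizer (swapsIn P))).map (conjHom (swapsIn P))) := by
  classical
  refine ⟨(hP.1.comap_subtype).map _, ?_⟩
  intro R hR hle
  have hker : IsPGroup 2 (R.comap (conjHom (swapsIn P))) := by
    intro σ
    obtain ⟨k, hk⟩ := hR ⟨conjHom (swapsIn P) σ.1, σ.2⟩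
    have hk' : conjHom (swapsIn P) ((σ : ↥(Subgroup.normalizer (swapsIn P))) ^ 2 ^ k) = 1 := by
      have := congrArg Subtype.val hk
      simpa using this
    have h2 := sq_eq_one_of_conjHom_eq_one hP _ hk'
    refine ⟨k + 1, ?_⟩
    apply Subtype.ext
    apply Subtype.ext
    have e : (((σ ^ 2 ^ (k + 1) : ↥(R.comap (conjHom (swapsIn P)))) :
        ↥(Subgroup.normalizer (swapsIn P))) : Perm Ω)
        = (((σ : ↥(Subgroup.normalizer (swapsIn P))) ^ 2 ^ k :
            ↥(Subgroup.normalizer (swapsIn P))) : Perm Ω) *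
          (((σ : ↥(Subgroup.normalizer (swapsIn P))) ^ 2 ^ k :
            ↥(Subgroup.normalizer (swapsIn P))) : Perm Ω) := by
      simp only [Subgroup.coe_pow]
      rw [← pow_add, pow_succ, mul_two]
    rw [e, h2]
    rfl
  have hR' : IsPGroup 2 ((R.comap (conjHom (swapsIn P))).map
      (Subgroup.normalizer (swapsIn P)).subtype) := hker.map _
  have hPle : P ≤ (R.comap (conjHom (swapsIn P))).map (Subgroup.normalizer (swapsIn P)).subtype := by
    intro p hp
    refine ⟨⟨p, le_normalizer_swapsIn P hp⟩, ?_, rfl⟩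
    apply hle
    exact ⟨⟨p, le_normalizer_swapsIn P hp⟩, hp, rfl⟩
  have heq := hP.2 _ hR' hPle
  apply le_antisymm _ hle
  intro r hr
  obtain ⟨σ, rfl⟩ := conjHom_surjective hP.1 r
  have hσ : (σ : Perm Ω) ∈ (R.comap (conjHom (swapsIn P))).map
      (Subgroup.normalizer (swapsIn P)).subtype := ⟨σ, hr, rfl⟩
  rw [heq] at hσ
  exact ⟨σ, hσ, rfl⟩

theorem card_swapsIn_lt [Nonempty Ω] {P : Subgroup (Perm Ω)} (hP : IsPGroup 2 P) :
    Nat.card ↥(swapsIn P) < Nat.card Ω := by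
  classical
  have hex : ∀ τ : ↥(swapsIn P), ∃ x : Ω, (τ : Perm Ω) x ≠ x := by
    intro τ
    obtain ⟨a, b, hab, e⟩ := τ.2.2
    exact ⟨a, by rw [e, Equiv.swap_apply_left]; exact Ne.symm hab⟩
  choose f hf using hex
  have hinj : Function.Injective f := by
    intro τ₁ τ₂ h
    apply Subtype.ext
    exact eq_of_moves hP τ₁.2 τ₂.2 (hf τ₁) (h ▸ hf τ₂)
  have hns : ¬ Function.Surjective f := by
    intro hs
    rcases isEmpty_or_nonempty ↥(swapsIn P) with he | ⟨⟨τ₀⟩⟩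
    · obtain ⟨τ, _⟩ := hs (Classical.arbitrary Ω)
      exact he.elim τ
    · obtain ⟨τ, hτ⟩ := hs ((τ₀ : Perm Ω) (f τ₀))
      have h1 : (τ₀ : Perm Ω) ((τ₀ : Perm Ω) (f τ₀)) ≠ (τ₀ : Perm Ω) (f τ₀) := by
        rw [isSwap_apply_apply τ₀.2.2]
        exact Ne.symm (hf τ₀)
      have h2 : (τ : Perm Ω) ((τ₀ : Perm Ω) (f τ₀)) ≠ (τ₀ : Perm Ω) (f τ₀) := by
        rw [← hτ]; exact hf τ
      have h3 : (τ : Perm Ω) = τ₀ := eq_of_moves hP τ.2 τ₀.2 h2 h1
      have h4 : τ = τ₀ := Subtype.ext h3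
      rw [h4] at hτ
      exact hf τ₀ hτ.symm
  have := Fintype.card_lt_of_injective_not_surjective f hinj hns
  rwa [← Nat.card_eq_fintype_card, ← Nat.card_eq_fintype_card] at this

end swaps

/-- **An element of odd order normalizing a maximal 2-subgroup of a finite symmetric group is
trivial.** -/
theorem eq_one_of_normalizes : ∀ (n : ℕ) (Ω : Type) [Finite Ω], Nat.card Ω = n →
    ∀ P : Subgroup (Perm Ω), Max2 P → ∀ g : Perm Ω, (∀ x ∈ P, g * x * g⁻¹ ∈ P) →
      Odd (orderOf g) → g = 1 := by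
  intro n
  induction n using Nat.strong_induction_on with
  | _ n ih =>
    intro Ω _ hn P hP g hg hodd
    classical
    haveI := Fintype.ofFinite Ω
    rcases isEmpty_or_nonempty Ω with he | hne
    · exact Subsingleton.elim _ _
    have hgP := conj_mem_iff_of_forall (P : Set (Perm Ω)) g hg
    have hgT : g ∈ Subgroup.normalizer (swapsIn P) := by
      rw [Subgroup.mem_set_normalizer_iff]
      intro τ
      constructor
      · rintro ⟨h1, h2⟩
        exact ⟨hg τ h1, isSwap_conj h2 g⟩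
      · rintro ⟨h1, h2⟩
        refine ⟨(hgP τ).mpr h1, ?_⟩
        have := isSwap_conj h2 g⁻¹
        simpa [mul_assoc] using this
    let γ : ↥(Subgroup.normalizer (swapsIn P)) := ⟨g, hgT⟩
    have hlt : Nat.card ↥(swapsIn P) < n := hn ▸ card_swapsIn_lt hP.1
    have hnorm : ∀ y ∈ (P.subgroupOf (Subgroup.normalizer (swapsIn P))).map (conjHom (swapsIn P)),
        conjHom (swapsIn P) γ * y * (conjHom (swapsIn P) γ)⁻¹ ∈
          (P.subgroupOf (Subgroup.normalizer (swapsIn P))).map (conjHom (swapsIn P)) := by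
      rintro _ ⟨q, hq, rfl⟩
      refine ⟨γ * q * γ⁻¹, ?_, by simp⟩
      rw [SetLike.mem_coe, Subgroup.mem_subgroupOf] at hq ⊢
      exact hg _ hq
    have hodd' : Odd (orderOf (conjHom (swapsIn P) γ)) := by
      have h1 : orderOf (conjHom (swapsIn P) γ) ∣ orderOf γ := orderOf_map_dvd _ _
      have h2 : orderOf γ = orderOf g := (Subgroup.orderOf_coe γ).symm
      rw [h2] at h1
      exact Odd.of_dvd_nat hodd h1
    have h1 := ih _ hlt ↥(swapsIn P) rfl _ (max2_image hP) _ hnorm hodd'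
    have h2 : g * g = 1 := sq_eq_one_of_conjHom_eq_one hP γ h1
    have h3 : orderOf g ∣ 2 := orderOf_dvd_of_pow_eq_one (by rw [pow_two]; exact h2)
    rcases (Nat.dvd_prime Nat.prime_two).mp h3 with h4 | h4
    · exact orderOf_eq_one_iff.mp h4
    · rw [h4] at hodd
      exact absurd hodd (by decide)

end Cfsg.Agent.Lib.Lead.SylTwoSym
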