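import Mathlib
import Cfsg.Agent.Lib.Lead.SylTwoSym
import Cfsg.Agent.Lib.Helper68.Pronormal

/-!
# Sylow 2-subgroups of alternating groups of degree at least 6 are self-normalizing

`swaps_subset`: for maximal 2-subgroups `P`, `P'` of a symmetric group of degree at least 6 such
that the even elements of `P` lie in `P'`, every transposition of `P` lies in `P'`.
`alt_normalizer_odd`: an element of odd order normalizing a Sylow 2-subgroup of `A_n`, `n ≥ 6`,
is trivial.  `alt_normalizer_eq`: the Sylow 2-subgroups of `A_n`, `n ≥ 6`, are self-normalizing.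
-/

set_option linter.unusedSectionVars false
set_option linter.style.haveILetI false

namespace Cfsg.Agent.Lib.Lead.SylTwoAlt

open Equiv Cfsg.Agent.Lib.Lead.SylTwoSym Cfsg.Agent.Lib.Helper68.Pronormal

section general

variable {Ω : Type*} [DecidableEq Ω] [Fintype Ω]

theorem max2_cj {G : Type*} [Group G] {P : Subgroup G} (hP : Max2 P) (g : G) : Max2 (cj g P) := by
  refine ⟨hP.1.map _, ?_⟩
  intro Q hQ hle
  have h1 : IsPGroup 2 (Q.comap (MulAut.conj g).toMonoidHom) :=
    hQ.comap_of_injective _ (MulAut.conj g).injective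
  have h2 : P ≤ Q.comap (MulAut.conj g).toMonoidHom := Subgroup.map_le_iff_le_comap.mp hle
  have h3 := hP.2 _ h1 h2
  have h4 : (Q.comap (MulAut.conj g).toMonoidHom).map (MulAut.conj g).toMonoidHom = Q :=
    Subgroup.map_comap_eq_self_of_surjective (MulAut.conj g).surjective Q
  rw [h3] at h4
  exact h4.symm

/-- outside a small set of points there is a point moved by a transposition of `P` -/
theorem exists_other {P : Subgroup (Perm Ω)} (hP : Max2 P) (F : Finset Ω)
    (hF : F.card + 2 ≤ Fintype.card Ω) : ∃ c, c ∉ F ∧ ∃ τ ∈ swapsIn P, τ c ≠ c := by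
  have h1 : 1 < (Fᶜ).card := by
    rw [Finset.card_compl]; omega
  obtain ⟨c₁, hc₁, c₂, hc₂, hne⟩ := Finset.one_lt_card.mp h1
  rw [Finset.mem_compl] at hc₁ hc₂
  by_cases h : ∃ τ ∈ swapsIn P, τ c₁ ≠ c₁
  · exact ⟨c₁, hc₁, h⟩
  by_cases h' : ∃ τ ∈ swapsIn P, τ c₂ ≠ c₂
  · exact ⟨c₂, hc₂, h'⟩
  exfalso
  refine covered_of_max2 hP hne ?_ ?_
  · intro τ hτ
    by_contra h''
    exact h ⟨τ, hτ, h''⟩
  · intro τ hτ
    by_contra h''
    exact h' ⟨τ, hτ, h''⟩

/-- if the even elements of `P` lie in `P'` then the transpositions of `P` lie in `P'` -/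
theorem swaps_subset {P P' : Subgroup (Perm Ω)} (hP : Max2 P) (hP' : Max2 P')
    (heven : ∀ x ∈ P, Perm.sign x = 1 → x ∈ P') (h6 : 6 ≤ Fintype.card Ω) :
    ∀ e ∈ swapsIn P, e ∈ swapsIn P' := by
  intro e he
  by_contra hcon
  have heP' : e ∉ P' := fun h => hcon ⟨h, he.2⟩
  obtain ⟨a, a', haa', ee⟩ := he.2
  have mea : e a ≠ a := by rw [ee, Equiv.swap_apply_left]; exact Ne.symm haa'
  have mea' : e a' ≠ a' := by rw [ee, Equiv.swap_apply_right]; exact haa'
  -- two more transpositions
  obtain ⟨c, hc, f₁, hf₁, hf₁c⟩ := exists_other hP {a, a'} (by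
    have : ({a, a'} : Finset Ω).card ≤ 2 := Finset.card_le_two
    omega)
  have hca : c ≠ a := fun h => hc (by simp [h])
  have hca' : c ≠ a' := fun h => hc (by simp [h])
  have hf₁e : f₁ ≠ e := by
    intro h
    apply hf₁c
    rw [h, ee]
    exact Equiv.swap_apply_of_ne_of_ne hca hca'
  obtain ⟨d, hd, f₂, hf₂, hf₂d⟩ := exists_other hP {a, a', c, f₁ c} (by
    have : ({a, a', c, f₁ c} : Finset Ω).card ≤ 4 := Finset.card_le_four
    omega)
  have hda : d ≠ a := fun h => hd (by simp [h])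
  have hda' : d ≠ a' := fun h => hd (by simp [h])
  have hdc : d ≠ c := fun h => hd (by simp [h])
  have hdc' : d ≠ f₁ c := fun h => hd (by simp [h])
  have hf₂e : f₂ ≠ e := by
    intro h
    apply hf₂d
    rw [h, ee]
    exact Equiv.swap_apply_of_ne_of_ne hda hda'
  have hf₂f₁ : f₂ ≠ f₁ := by
    intro h
    apply hf₂d
    rw [h, swap_of_moves hf₁.2 hf₁c]
    exact Equiv.swap_apply_of_ne_of_ne hdc hdc'
  -- a point of `e` covered by `P'`
  have hex : ∃ u u', u ≠ u' ∧ e = swap u u' ∧ ∃ τ' ∈ swapsIn P', τ' u ≠ u := by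
    by_cases h : ∃ τ' ∈ swapsIn P', τ' a ≠ a
    · exact ⟨a, a', haa', ee, h⟩
    · by_cases h' : ∃ τ' ∈ swapsIn P', τ' a' ≠ a'
      · exact ⟨a', a, Ne.symm haa', by rw [ee, Equiv.swap_comm], h'⟩
      · exfalso
        refine covered_of_max2 hP' haa' ?_ ?_
        · intro τ hτ
          by_contra h''
          exact h ⟨τ, hτ, h''⟩
        · intro τ hτ
          by_contra h''
          exact h' ⟨τ, hτ, h''⟩
  obtain ⟨u, u', huu', eu, τ', hτ', hτ'u⟩ := hex
  have meu : e u ≠ u := by rw [eu, Equiv.swap_apply_left]; exact Ne.symm huu'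
  have meu' : e u' ≠ u' := by rw [eu, Equiv.swap_apply_right]; exact huu'
  have eτ' := swap_of_moves hτ'.2 hτ'u
  have hvu' : τ' u ≠ u' := by
    intro h
    apply heP'
    rw [eu, ← h, ← eτ']
    exact hτ'.1
  have hτ'v : τ' (τ' u) ≠ τ' u := by
    rw [isSwap_apply_apply hτ'.2]; exact Ne.symm hτ'u
  -- the key computation for a transposition `f` of `P` different from `e`
  have key : ∀ f ∈ swapsIn P, f ≠ e →
      swap u' (f (τ' u)) ∈ swapsIn P' ∧ f (τ' u) ≠ u' := by
    intro f hf hfe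
    have hd := disjoint_of_ne hP.1 hf he hfe
    have fu : f u = u := (hd u).resolve_right meu
    have fu' : f u' = u' := (hd u').resolve_right meu'
    have hx : e * f ∈ P' := by
      apply heven _ (P.mul_mem he.1 hf.1)
      rw [map_mul, he.2.sign_eq, hf.2.sign_eq]
      decide
    have hw1 : f (τ' u) ≠ u := by
      intro h
      have := congrArg f h
      rw [isSwap_apply_apply hf.2, fu] at this
      exact hτ'u this
    have hw2 : f (τ' u) ≠ u' := by
      intro h
      have := congrArg f h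
      rw [isSwap_apply_apply hf.2, fu'] at this
      exact hvu' this
    have xu : (e * f) u = u' := by
      rw [Perm.mul_apply, fu, eu, Equiv.swap_apply_left]
    have xv : (e * f) (τ' u) = f (τ' u) := by
      rw [Perm.mul_apply, eu]
      exact Equiv.swap_apply_of_ne_of_ne hw1 hw2
    have hy : (e * f) * τ' * (e * f)⁻¹ ∈ swapsIn P' :=
      ⟨P'.mul_mem (P'.mul_mem hx hτ'.1) (P'.inv_mem hx), isSwap_conj hτ'.2 _⟩
    have ey : (e * f) * τ' * (e * f)⁻¹ = swap u' (f (τ' u)) := by
      conv_lhs => rw [eτ']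
      rw [← Equiv.swap_apply_apply, xu, xv]
    rw [ey] at hy
    exact ⟨hy, hw2⟩
  obtain ⟨k1, k1'⟩ := key f₁ hf₁ hf₁e
  obtain ⟨k2, k2'⟩ := key f₂ hf₂ hf₂e
  have m1 : swap u' (f₁ (τ' u)) u' ≠ u' := by
    rw [Equiv.swap_apply_left]; exact k1'
  have m2 : swap u' (f₂ (τ' u)) u' ≠ u' := by
    rw [Equiv.swap_apply_left]; exact k2'
  have heq := eq_of_moves hP'.1 k1 k2 m1 m2
  have hff : f₁ (τ' u) = f₂ (τ' u) := by
    have := congrArg (fun σ : Perm Ω => σ u') heq
    simpa using this
  by_cases hfv : f₁ (τ' u) = τ' u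
  · -- then `swap u' v` and `τ'` both move `v`
    rw [hfv] at k1
    have m3 : swap u' (τ' u) (τ' u) ≠ τ' u := by
      rw [Equiv.swap_apply_right]; exact Ne.symm hvu'
    have h1 := eq_of_moves hP'.1 k1 hτ' m3 hτ'v
    have h2 := congrArg (fun σ : Perm Ω => σ (τ' u)) h1
    simp only [Equiv.swap_apply_right] at h2
    rw [isSwap_apply_apply hτ'.2] at h2
    exact huu' h2.symm
  · have hfv2 : f₂ (τ' u) ≠ τ' u := by rw [← hff]; exact hfv
    exact hf₂f₁ (eq_of_moves hP.1 hf₂ hf₁ hfv2 hfv)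

end general

section alt

variable {n : ℕ}

/-- an element of odd order normalizing a Sylow 2-subgroup of `A_n`, `n ≥ 6`, is trivial -/
theorem alt_normalizer_odd (hn : 6 ≤ n) (S : Sylow 2 (alternatingGroup (Fin n)))
    (g : alternatingGroup (Fin n))
    (hg : g ∈ Subgroup.normalizer
      ((S : Subgroup (alternatingGroup (Fin n))) : Set (alternatingGroup (Fin n))))
    (hodd : Odd (orderOf g)) : g = 1 := by
  classical
  let S' : Subgroup (Perm (Fin n)) :=
    (S : Subgroup (alternatingGroup (Fin n))).map (alternatingGroup (Fin n)).subtype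
  have hS' : IsPGroup 2 S' := S.isPGroup'.map _
  obtain ⟨P₀, hP₀⟩ := hS'.exists_le_sylow
  let P : Subgroup (Perm (Fin n)) := P₀
  have hP : Max2 P := max2_of_sylow P₀
  have hB1 : ∀ x ∈ P, Perm.sign x = 1 → x ∈ S' := by
    intro x hx hsx
    have hQ : IsPGroup 2 ((P ⊓ alternatingGroup (Fin n)).subgroupOf (alternatingGroup (Fin n))) :=
      (hP.1.to_le inf_le_left).comap_subtype
    have hle : (S : Subgroup (alternatingGroup (Fin n))) ≤
        (P ⊓ alternatingGroup (Fin n)).subgroupOf (alternatingGroup (Fin n)) := by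
      intro s hs
      rw [Subgroup.mem_subgroupOf]
      exact ⟨hP₀ ⟨s, hs, rfl⟩, s.2⟩
    have heq := S.is_maximal' hQ hle
    have hxA : x ∈ alternatingGroup (Fin n) := Equiv.Perm.mem_alternatingGroup.mpr hsx
    have hmem : (⟨x, hxA⟩ : alternatingGroup (Fin n)) ∈
        (P ⊓ alternatingGroup (Fin n)).subgroupOf (alternatingGroup (Fin n)) := by
      rw [Subgroup.mem_subgroupOf]; exact ⟨hx, hxA⟩
    rw [heq] at hmem
    exact ⟨⟨x, hxA⟩, hmem, rfl⟩
  let g₀ : Perm (Fin n) := (g : Perm (Fin n))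
  have hg1 : ∀ x ∈ S', g₀ * x * g₀⁻¹ ∈ S' := by
    rintro _ ⟨s, hs, rfl⟩
    exact ⟨g * s * g⁻¹, (Subgroup.mem_normalizer_iff.mp hg s).mp hs, rfl⟩
  have hg2 : ∀ x ∈ S', g₀⁻¹ * x * g₀ ∈ S' := by
    rintro _ ⟨s, hs, rfl⟩
    exact ⟨g⁻¹ * s * g, (Subgroup.mem_normalizer_iff''.mp hg s).mp hs, rfl⟩
  have h6 : 6 ≤ Fintype.card (Fin n) := by simpa using hn
  have hsub := swaps_subset hP (max2_cj hP g₀) (by
    intro x hx hsx
    rw [mem_cj]
    exact hP₀ (hg2 x (hB1 x hx hsx))) h6
  have h1 : ∀ τ ∈ swapsIn P, g₀⁻¹ * τ * g₀⁻¹⁻¹ ∈ swapsIn P := by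
    intro τ hτ
    have h := hsub τ hτ
    refine ⟨?_, isSwap_conj hτ.2 _⟩
    have := mem_cj.mp h.1
    simpa using this
  have h2 := conj_mem_iff_of_forall (swapsIn P) g₀⁻¹ h1
  have hgT : g₀ ∈ Subgroup.normalizer (swapsIn P) := by
    rw [← Subgroup.inv_mem_iff]
    exact Subgroup.mem_set_normalizer_iff.mpr h2
  let γ : ↥(Subgroup.normalizer (swapsIn P)) := ⟨g₀, hgT⟩
  obtain ⟨c, _, τ₀, hτ₀, _⟩ := exists_other hP ∅ (by
    rw [Finset.card_empty]; omega)
  have hτ₀ker : conjHom (swapsIn P) ⟨τ₀, le_normalizer_swapsIn P hτ₀.1⟩ = 1 := by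
    apply Equiv.ext
    intro τ
    apply Subtype.ext
    rw [conjHom_apply]
    show τ₀ * (τ : Perm (Fin n)) * τ₀⁻¹ = τ
    rw [commute_of_swapsIn hP.1 hτ₀ τ.2]
    group
  have hnorm : ∀ y ∈ (P.subgroupOf (Subgroup.normalizer (swapsIn P))).map (conjHom (swapsIn P)),
      conjHom (swapsIn P) γ * y * (conjHom (swapsIn P) γ)⁻¹ ∈
        (P.subgroupOf (Subgroup.normalizer (swapsIn P))).map (conjHom (swapsIn P)) := by
    have even_case : ∀ q : ↥(Subgroup.normalizer (swapsIn P)), (q : Perm (Fin n)) ∈ P →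
        Perm.sign (q : Perm (Fin n)) = 1 →
        conjHom (swapsIn P) γ * conjHom (swapsIn P) q * (conjHom (swapsIn P) γ)⁻¹ ∈
          (P.subgroupOf (Subgroup.normalizer (swapsIn P))).map (conjHom (swapsIn P)) := by
      intro q hq hs
      refine ⟨γ * q * γ⁻¹, ?_, by simp⟩
      rw [SetLike.mem_coe, Subgroup.mem_subgroupOf]
      exact hP₀ (hg1 _ (hB1 _ hq hs))
    rintro _ ⟨q, hq, rfl⟩
    rw [SetLike.mem_coe, Subgroup.mem_subgroupOf] at hq
    rcases Int.units_eq_one_or (Perm.sign (q : Perm (Fin n))) with hs | hs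
    · exact even_case q hq hs
    · have e : conjHom (swapsIn P) q =
          conjHom (swapsIn P) (q * ⟨τ₀, le_normalizer_swapsIn P hτ₀.1⟩) := by
        rw [map_mul, hτ₀ker, mul_one]
      rw [e]
      apply even_case
      · exact P.mul_mem hq hτ₀.1
      · show Perm.sign ((q : Perm (Fin n)) * τ₀) = 1
        rw [map_mul, hs, hτ₀.2.sign_eq]
        decide
  have hodd' : Odd (orderOf (conjHom (swapsIn P) γ)) := by
    have h1 : orderOf (conjHom (swapsIn P) γ) ∣ orderOf γ := orderOf_map_dvd _ _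
    have h2 : orderOf γ = orderOf g₀ := (Subgroup.orderOf_coe γ).symm
    have h3 : orderOf g₀ = orderOf g := Subgroup.orderOf_coe g
    rw [h2, h3] at h1
    exact Odd.of_dvd_nat hodd h1
  have h3 := eq_one_of_normalizes _ ↥(swapsIn P) rfl _ (max2_image hP) _ hnorm hodd'
  have h4 : g₀ * g₀ = 1 := sq_eq_one_of_conjHom_eq_one hP γ h3
  have h5 : orderOf g₀ ∣ 2 := orderOf_dvd_of_pow_eq_one (by rw [pow_two]; exact h4)
  have h6' : orderOf g₀ = orderOf g := Subgroup.orderOf_coe g
  rw [h6'] at h5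
  rcases (Nat.dvd_prime Nat.prime_two).mp h5 with h7 | h7
  · exact orderOf_eq_one_iff.mp h7
  · rw [h7] at hodd
    exact absurd hodd (by decide)

/-- the Sylow 2-subgroups of `A_n`, `n ≥ 6`, are self-normalizing -/
theorem alt_normalizer_eq (hn : 6 ≤ n) (S : Sylow 2 (alternatingGroup (Fin n))) :
    Subgroup.normalizer
      ((S : Subgroup (alternatingGroup (Fin n))) : Set (alternatingGroup (Fin n))) = S := by
  apply le_antisymm _ Subgroup.le_normalizer
  intro g hg
  have hpos : orderOf g ≠ 0 := (orderOf_pos g).ne'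
  obtain ⟨k, m, hm, hkm⟩ := Nat.exists_eq_two_pow_mul_odd hpos
  have h1 : orderOf (g ^ 2 ^ k) = m := by
    rw [orderOf_pow_of_dvd (by positivity) (Dvd.intro _ hkm.symm), hkm]
    exact Nat.mul_div_cancel_left m (by positivity)
  have h2 : g ^ 2 ^ k = 1 :=
    alt_normalizer_odd hn S _ (Subgroup.pow_mem _ hg _) (h1 ▸ hm)
  have hz : IsPGroup 2 (Subgroup.zpowers g) := by
    rintro ⟨x, hx⟩
    refine ⟨k, ?_⟩
    obtain ⟨i, rfl⟩ := Subgroup.mem_zpowers_iff.mp hx
    apply Subtype.ext
    show (g ^ i) ^ 2 ^ k = 1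
    rw [← zpow_natCast, ← zpow_mul, mul_comm, zpow_mul, zpow_natCast, h2, one_zpow]
  have hle : Subgroup.zpowers g ≤ Subgroup.normalizer
      ((S : Subgroup (alternatingGroup (Fin n))) : Set (alternatingGroup (Fin n))) := by
    rw [Subgroup.zpowers_le]; exact hg
  have hsup := hz.to_sup_of_normal_right' S.isPGroup' hle
  have heq := S.is_maximal' hsup le_sup_right
  have hgm : g ∈ Subgroup.zpowers g ⊔ (S : Subgroup (alternatingGroup (Fin n))) :=
    (le_sup_left : Subgroup.zpowers g ≤ _) (Subgroup.mem_zpowers g)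
  rw [heq] at hgm
  exact hgm

end alt

section pronormal

variable {G : Type*} [Group G] [Finite G] {p : ℕ} [Fact p.Prime]

/-- a subgroup of index prime to `p` contains a Sylow `p`-subgroup -/
theorem exists_sylow_le (H : Subgroup G) (hH : ¬ p ∣ H.index) :
    ∃ S : Sylow p G, (S : Subgroup G) ≤ H := by
  obtain ⟨Q⟩ := (inferInstance : Nonempty (Sylow p H))
  have hT := isSyl_of_sylow H Q
  have hidx : ¬ p ∣ ((Q : Subgroup H).map H.subtype).index := by
    rw [← Subgroup.relIndex_mul_index hT.1]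
    intro h
    rcases (Nat.Prime.dvd_mul Fact.out).mp h with h | h
    · exact hT.2.2 h
    · exact hH h
  refine ⟨hT.2.1.toSylow hidx, ?_⟩
  rw [IsPGroup.toSylow_coe]
  exact hT.1

/-- if the normalizer of a Sylow subgroup of `G` inside `H` normalizes `H` then `H` is pronormal -/
theorem pronormal_of_sylow_normalizer (H : Subgroup G) (S : Sylow p G)
    (hSH : (S : Subgroup G) ≤ H)
    (hN : ∀ c ∈ Subgroup.normalizer ((S : Subgroup G) : Set G), cj c H = H) :
    Cfsg.IsPronormal H := by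
  rw [isPronormal_iff]
  intro g
  have h1 : IsSyl p (S : Subgroup G) (H ⊔ cj g H) :=
    isSyl_of_sylow_le S _ (hSH.trans le_sup_left)
  have h2 : IsSyl p (cj g (S : Subgroup G)) (H ⊔ cj g H) := by
    have := isSyl_of_sylow_le (g • S) (H ⊔ cj g H) (by
      rw [coe_smul_sylow]
      exact (cj_mono hSH).trans le_sup_right)
    rwa [coe_smul_sylow] at this
  obtain ⟨c, hcK, hc⟩ := h1.exists_cj h2
  have h3 : cj (c⁻¹ * g) (S : Subgroup G) = S := by
    rw [cj_mul, hc, cj_inv_cj]
  have h4 := hN _ (mem_normalizer_iff_cj.mpr h3)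
  refine ⟨c, hcK, ?_⟩
  have e : g = c * (c⁻¹ * g) := by group
  conv_lhs => rw [e]
  rw [cj_mul, h4]

/-- a subgroup of prime index is pronormal -/
theorem pronormal_of_prime_index (H : Subgroup G) {q : ℕ} (hq : q.Prime) (hH : H.index = q) :
    Cfsg.IsPronormal H := by
  rw [isPronormal_iff]
  intro g
  by_cases hg : cj g H = H
  · exact ⟨1, Subgroup.one_mem _, by rw [cj_one, hg]⟩
  · have htop : H ⊔ cj g H = ⊤ := by
      by_contra hne
      have h1 : (H ⊔ cj g H).index ≠ 1 := fun h => hne (Subgroup.index_eq_one.mp h)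
      have h2 : (H ⊔ cj g H).index ∣ q := by
        rw [← hH, ← Subgroup.relIndex_mul_index (le_sup_left : H ≤ H ⊔ cj g H)]
        exact dvd_mul_left _ _
      have h3 : (H ⊔ cj g H).index = q := ((Nat.dvd_prime hq).mp h2).resolve_left h1
      have h4 := Subgroup.relIndex_mul_index (le_sup_left : H ≤ H ⊔ cj g H)
      rw [h3, hH] at h4
      have h5 : H.relIndex (H ⊔ cj g H) = 1 := by
        have hq0 : 0 < q := hq.pos
        exact Nat.eq_of_mul_eq_mul_right hq0 (by rw [h4, one_mul])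
      have h6 : H ⊔ cj g H ≤ H := Subgroup.relIndex_eq_one.mp h5
      have h7 : cj g H ≤ H := le_sup_right.trans h6
      apply hg
      apply Subgroup.eq_of_le_of_card_ge h7
      unfold cj
      rw [Subgroup.card_map_of_injective (MulAut.conj g).injective]
    exact ⟨g, htop ▸ Subgroup.mem_top g, rfl⟩

end pronormal

/-- a proper subgroup of `A_5` has index at least 5 -/
theorem five_le_index (H : Subgroup (alternatingGroup (Fin 5))) (hH : H ≠ ⊤) : 5 ≤ H.index := by
  have hcore : H.normalCore = ⊥ := by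
    rcases (H.normalCore_normal).eq_bot_or_eq_top with h | h
    · exact h
    · exfalso
      apply hH
      rw [eq_top_iff, ← h]
      exact Subgroup.normalCore_le H
  have hinj : Function.Injective (MulAction.toPermHom (alternatingGroup (Fin 5))
      (alternatingGroup (Fin 5) ⧸ H)) := by
    rw [← MonoidHom.ker_eq_bot_iff, ← Subgroup.normalCore_eq_ker, hcore]
  have h1 : Nat.card (alternatingGroup (Fin 5)) ≤
      Nat.card (Equiv.Perm (alternatingGroup (Fin 5) ⧸ H)) :=
    Nat.card_le_card_of_injective _ hinj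
  have h2 : Nat.card (alternatingGroup (Fin 5)) = 60 := by
    rw [nat_card_alternatingGroup]
    simp [Nat.factorial]
  rw [h2, Nat.card_perm] at h1
  by_contra hlt
  have h3 : H.index ≤ 4 := by omega
  have h4 : (Nat.card (alternatingGroup (Fin 5) ⧸ H)).factorial ≤ Nat.factorial 4 :=
    Nat.factorial_le h3
  have h5 : Nat.factorial 4 = 24 := by decide
  omega

/-- every subgroup of odd index of `A_5` is pronormal -/
theorem pronormal_five (H : Subgroup (alternatingGroup (Fin 5))) (hH : Odd H.index) :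
    Cfsg.IsPronormal H := by
  have hcard : Nat.card (alternatingGroup (Fin 5)) = 60 := by
    rw [nat_card_alternatingGroup]
    simp [Nat.factorial]
  by_cases htop : H = ⊤
  · rw [isPronormal_iff]
    intro g
    refine ⟨1, Subgroup.one_mem _, ?_⟩
    rw [htop]
    haveI : (⊤ : Subgroup (alternatingGroup (Fin 5))).Normal := inferInstance
    rw [cj_normal, cj_normal]
  have h5 := five_le_index H htop
  have hdvd : H.index ∣ 60 := hcard ▸ H.index_dvd_card
  have hcases : H.index = 5 ∨ H.index = 15 := by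
    have hle : H.index ≤ 60 := Nat.le_of_dvd (by norm_num) hdvd
    obtain ⟨r, hr⟩ := hH
    generalize H.index = i at *
    interval_cases i <;> omega
  rcases hcases with h | h
  · exact pronormal_of_prime_index H Nat.prime_five h
  · haveI : Fact (Nat.Prime 2) := ⟨Nat.prime_two⟩
    have hc4 : Nat.card H = 2 ^ 2 := by
      have := H.card_mul_index
      rw [h, hcard] at this
      omega
    have hp : IsPGroup 2 H := IsPGroup.of_card hc4
    have hnd : ¬ 2 ∣ H.index := by rw [h]; decide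
    apply pronormal_of_sylow_normalizer (p := 2) H (hp.toSylow hnd)
    · rw [IsPGroup.toSylow_coe]
    · intro c hc
      rw [IsPGroup.toSylow_coe] at hc
      exact cj_eq_of_mem_normalizer hc

end Cfsg.Agent.Lib.Lead.SylTwoAlt
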